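import Cfsg.Agent.Lib.Helper29.E4.Defs

set_option autoImplicit false

namespace Cfsg.Agent.Lib.Helper29.E4

variable {G : Type*} [Group G]

theorem inverts [Finite G] (hG : H34 G) (N : Subgroup G) [N.Normal] (hN3 : ∀ x ∈ N, x ^ 3 = 1)
    (t : G) (ht : t ^ 2 = 1) (ht1 : t ≠ 1) : ∀ x ∈ N, t * x * t⁻¹ = x⁻¹ := by
  have htt : t * t = 1 := by rw [← pow_two]; exact ht
  have hti : t⁻¹ = t := inv_eq_of_mul_eq_one_left htt
  have ht4 : t ^ 4 = 1 := by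
    have : t ^ 4 = (t ^ 2) ^ 2 := by rw [← pow_mul]
    rw [this, ht, one_pow]
  have hconj : ∀ x ∈ N, t * x * t⁻¹ ∈ N := fun x hx => Subgroup.Normal.conj_mem inferInstance x hx t
  let φ : N → N := fun x => ⟨x.1⁻¹ * (t * x.1 * t⁻¹), N.mul_mem (N.inv_mem x.2) (hconj x.1 x.2)⟩
  have hinj : Function.Injective φ := by
    intro x y hxy
    have h1 : x.1⁻¹ * (t * x.1 * t⁻¹) = y.1⁻¹ * (t * y.1 * t⁻¹) := congrArg Subtype.val hxy
    have h2 : Commute (y.1 * x.1⁻¹) t := by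
      show y.1 * x.1⁻¹ * t = t * (y.1 * x.1⁻¹)
      calc y.1 * x.1⁻¹ * t = y.1 * (x.1⁻¹ * (t * x.1 * t⁻¹)) * t * x.1⁻¹ := by group
        _ = y.1 * (y.1⁻¹ * (t * y.1 * t⁻¹)) * t * x.1⁻¹ := by rw [h1]
        _ = t * (y.1 * x.1⁻¹) := by group
    rcases hG.no_comm (hN3 _ (N.mul_mem y.2 (N.inv_mem x.2))) ht4 h2 with h | h
    · exact Subtype.ext (mul_inv_eq_one.1 h).symm
    · exact absurd h ht1
  have hsurj : Function.Surjective φ := Finite.surjective_of_injective hinj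
  intro x hx
  obtain ⟨w, hw⟩ := hsurj ⟨x, hx⟩
  have hx' : x = w.1⁻¹ * (t * w.1 * t⁻¹) := (congrArg Subtype.val hw).symm
  rw [hx', hti]
  calc t * (w.1⁻¹ * (t * w.1 * t)) * t = t * w.1⁻¹ * t * w.1 * (t * t) := by group
    _ = t * w.1⁻¹ * t * w.1 := by rw [htt, mul_one]
    _ = t⁻¹ * w.1⁻¹ * t⁻¹ * w.1 := by rw [hti]
    _ = (w.1⁻¹ * (t * w.1 * t))⁻¹ := by group

theorem elemAb_of_inverts (N : Subgroup G) (hN3 : ∀ x ∈ N, x ^ 3 = 1) (t : G)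
    (h : ∀ x ∈ N, t * x * t⁻¹ = x⁻¹) : Cfsg.IsElementaryAbelian 3 N := by
  refine ⟨⟨⟨fun a b => Subtype.ext ?_⟩⟩, hN3⟩
  show a.1 * b.1 = b.1 * a.1
  have h1 := h (a.1 * b.1) (N.mul_mem a.2 b.2)
  have h2 : t * (a.1 * b.1) * t⁻¹ = (t * a.1 * t⁻¹) * (t * b.1 * t⁻¹) := by group
  rw [h2, h a.1 a.2, h b.1 b.2] at h1
  have h3 := congrArg (fun w => w⁻¹) h1
  simp only [mul_inv_rev, inv_inv] at h3
  exact h3.symm

end Cfsg.Agent.Lib.Helper29.E4
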