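import Cfsg.Agent.Lib.Helper29.E4.Defs

set_option autoImplicit false

namespace Cfsg.Agent.Lib.Helper29.E4

variable {G : Type*} [Group G]

theorem cent_le (hG : H34 G) (N : Subgroup G) [N.Normal] (hN3 : ∀ x ∈ N, x ^ 3 = 1) (hN1 : N ≠ ⊥)
    (hmax : ∀ M : Subgroup G, M.Normal → (∀ x ∈ M, x ^ 3 = 1) → M ≤ N) :
    Subgroup.centralizer (N : Set G) ≤ N := by
  obtain ⟨x, hx, hx1⟩ : ∃ x ∈ N, x ≠ 1 := by
    by_contra hcon
    push Not at hcon
    exact hN1 ((Subgroup.eq_bot_iff_forall N).2 hcon)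
  apply hmax _ inferInstance
  intro c hc
  rcases hG c with h | h
  · exact h
  · have hcomm : Commute x c := (Subgroup.mem_centralizer_iff.1 hc x hx)
    rcases hG.no_comm (hN3 x hx) h hcomm with h' | h'
    · exact absurd h' hx1
    · rw [h', one_pow]

end Cfsg.Agent.Lib.Helper29.E4
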