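import Cfsg.Agent.Lib.Helper29.E4.Defs

set_option autoImplicit false

namespace Cfsg.Agent.Lib.Helper29.E4

variable {G : Type*} [Group G]

theorem A3a_order_two (N : Subgroup G) [N.Normal] (hN3 : ∀ x ∈ N, x ^ 3 = 1)
    (t : G) (ht : t ^ 2 = 1) (ht1 : t ≠ 1) : orderOf (t : G ⧸ N) = 2 := by
  apply orderOf_eq_prime
  · rw [← QuotientGroup.mk_pow, ht]; rfl
  · intro h
    rw [QuotientGroup.eq_one_iff] at h
    have h3 := hN3 t h
    apply ht1
    have : t ^ 3 = t ^ 2 * t := pow_succ t 2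
    rw [h3, ht, one_mul] at this
    exact this.symm

theorem quot_pow4 (hG : H34 G) (N : Subgroup G) [N.Normal] (hN3 : ∀ x ∈ N, x ^ 3 = 1)
    (huniq : ∀ y z : G ⧸ N, orderOf y = 2 → orderOf z = 2 → y = z)
    (t : G) (ht : t ^ 2 = 1) (ht1 : t ≠ 1) : ∀ y : G ⧸ N, y ^ 4 = 1 := by
  intro y
  obtain ⟨g, rfl⟩ := QuotientGroup.mk_surjective y
  rcases hG g with h | h
  · have h1 := A3a_order_two N hN3 t ht ht1
    have h2 : orderOf ((g * t * g⁻¹ : G) : G ⧸ N) = 2 := by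
      apply A3a_order_two N hN3
      · rw [conj_pow, ht, mul_one, mul_inv_cancel]
      · intro hc
        apply ht1
        have : t = g⁻¹ * (g * t * g⁻¹) * g := by group
        rw [this, hc, mul_one, inv_mul_cancel]
    have h3 := huniq _ _ h2 h1
    have hcomm : Commute (g : G ⧸ N) (t : G ⧸ N) := by
      show (g : G ⧸ N) * (t : G ⧸ N) = (t : G ⧸ N) * (g : G ⧸ N)
      have h4 : (g : G ⧸ N) * (t : G ⧸ N) * (g : G ⧸ N)⁻¹ = (t : G ⧸ N) := h3
      calc (g : G ⧸ N) * (t : G ⧸ N) = ((g : G ⧸ N) * (t : G ⧸ N) * (g : G ⧸ N)⁻¹) * (g : G ⧸ N) := by group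
        _ = (t : G ⧸ N) * (g : G ⧸ N) := by rw [h4]
    have hg3 : (g : G ⧸ N) ^ 3 = 1 := by rw [← QuotientGroup.mk_pow, h]; rfl
    have ht4 : (t : G ⧸ N) ^ 4 = 1 := by
      have : t ^ 4 = 1 := by
        have e : t ^ 4 = (t ^ 2) ^ 2 := by rw [← pow_mul]
        rw [e, ht, one_pow]
      rw [← QuotientGroup.mk_pow, this]; rfl
    rcases (hG.quotient N).no_comm hg3 ht4 hcomm with h' | h'
    · rw [h', one_pow]
    · rw [h', orderOf_one] at h1
      exact absurd h1 (by norm_num)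
  · rw [← QuotientGroup.mk_pow, h]; rfl

theorem quot_order4 (N : Subgroup G) [N.Normal] (hN3 : ∀ x ∈ N, x ^ 3 = 1) (g : G)
    (hg : orderOf g = 4) : orderOf (g : G ⧸ N) = 4 := by
  have hg4 : g ^ 4 = 1 := by rw [← hg]; exact pow_orderOf_eq_one g
  have h := orderOf_eq_prime_pow (p := 2) (n := 1) (x := (g : G ⧸ N)) ?_ ?_
  · simpa using h
  · rw [pow_one]
    intro hc
    rw [← QuotientGroup.mk_pow, QuotientGroup.eq_one_iff] at hc
    have h3 := hN3 _ hc
    have h2 : (g ^ 2) ^ 2 = 1 := by rw [← pow_mul]; exact hg4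
    have h1 : g ^ 2 = 1 := by
      have : (g ^ 2) ^ 3 = (g ^ 2) ^ 2 * g ^ 2 := pow_succ _ 2
      rw [h3, h2, one_mul] at this
      exact this.symm
    have := orderOf_dvd_of_pow_eq_one h1
    rw [hg] at this
    exact absurd this (by norm_num)
  · have e : (g : G ⧸ N) ^ 2 ^ (1 + 1) = ((g ^ 4 : G) : G ⧸ N) := by
      rw [QuotientGroup.mk_pow]; norm_num
    rw [e, hg4]; rfl

end Cfsg.Agent.Lib.Helper29.E4
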