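import Cfsg.Agent.Lib.Helper29.E4.Defs

set_option autoImplicit false

namespace Cfsg.Agent.Lib.Helper29.E4

variable {G : Type*} [Group G]

theorem A3b_lift (hG : H34 G) (N : Subgroup G) [N.Normal] (hN3 : ∀ x ∈ N, x ^ 3 = 1) (s : G)
    (hs : orderOf (s : G ⧸ N) = 2) : s ^ 2 = 1 ∧ s ≠ 1 := by
  have hy2 : (s : G ⧸ N) ^ 2 = 1 := by rw [← hs]; exact pow_orderOf_eq_one _
  have hy1 : (s : G ⧸ N) ≠ 1 := by
    intro h
    rw [h, orderOf_one] at hs
    exact absurd hs (by norm_num)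
  have hs4 : s ^ 4 = 1 := by
    rcases hG s with h | h
    · exfalso
      apply hy1
      have h3 : (s : G ⧸ N) ^ 3 = 1 := by rw [← QuotientGroup.mk_pow, h]; rfl
      have : (s : G ⧸ N) ^ 3 = (s : G ⧸ N) ^ 2 * (s : G ⧸ N) := pow_succ _ 2
      rw [h3, hy2, one_mul] at this
      exact this.symm
    · exact h
  constructor
  · have hmem : s ^ 2 ∈ N := by
      rw [← QuotientGroup.eq_one_iff, QuotientGroup.mk_pow]
      exact hy2
    have h3 := hN3 _ hmem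
    have h2 : (s ^ 2) ^ 2 = 1 := by rw [← pow_mul]; exact hs4
    have : (s ^ 2) ^ 3 = (s ^ 2) ^ 2 * s ^ 2 := pow_succ _ 2
    rw [h3, h2, one_mul] at this
    exact this.symm
  · rintro rfl
    exact hy1 rfl

theorem quot_unique_inv (hG : H34 G) (N : Subgroup G) [N.Normal] (hN3 : ∀ x ∈ N, x ^ 3 = 1)
    (hinv : ∀ t : G, t ^ 2 = 1 → t ≠ 1 → ∀ x ∈ N, t * x * t⁻¹ = x⁻¹)
    (hcent : Subgroup.centralizer (N : Set G) ≤ N) :
    ∀ y z : G ⧸ N, orderOf y = 2 → orderOf z = 2 → y = z := by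
  intro y z hy hz
  obtain ⟨s, rfl⟩ := QuotientGroup.mk_surjective y
  obtain ⟨r, rfl⟩ := QuotientGroup.mk_surjective z
  obtain ⟨hs2, hs1⟩ := A3b_lift hG N hN3 s hy
  obtain ⟨hr2, hr1⟩ := A3b_lift hG N hN3 r hz
  have hS := hinv s hs2 hs1
  have hR := hinv r hr2 hr1
  have hmem : s * r ∈ Subgroup.centralizer (N : Set G) := by
    rw [Subgroup.mem_centralizer_iff]
    intro x hx
    have h1 : s * (r * x * r⁻¹) * s⁻¹ = x := by
      rw [hR x hx, hS _ (N.inv_mem hx), inv_inv]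
    calc x * (s * r) = (s * (r * x * r⁻¹) * s⁻¹) * (s * r) := by rw [h1]
      _ = s * r * x := by group
  have h2 : ((s * r : G) : G ⧸ N) = 1 := (QuotientGroup.eq_one_iff _).2 (hcent hmem)
  have h3 : (s : G ⧸ N) * (r : G ⧸ N) = 1 := h2
  have h4 : (r : G ⧸ N) * (r : G ⧸ N) = 1 := by
    have : ((r ^ 2 : G) : G ⧸ N) = 1 := by rw [hr2]; rfl
    rw [pow_two] at this
    exact this
  exact mul_right_cancel (h3.trans h4.symm)

end Cfsg.Agent.Lib.Helper29.E4
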