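import Cfsg.Agent.Lib.Helper29.E4.Defs
import Cfsg.Agent.Lib.Helper47.ES9.C1

set_option autoImplicit false

namespace Cfsg.Agent.Lib.Helper29.E4

variable {G : Type*} [Group G]

theorem c4_or_q8 {X : Type*} [Group X] [Finite X] (h4 : ∀ y : X, y ^ 4 = 1)
    (huniq : ∀ y z : X, orderOf y = 2 → orderOf z = 2 → y = z) (g : X) (hg : orderOf g = 4) :
    (IsCyclic X ∧ Nat.card X = 4) ∨ Nonempty (X ≃* QuaternionGroup 2) := by
  have h2 : IsPGroup 2 X := fun y => ⟨2, by norm_num; exact h4 y⟩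
  rcases Cfsg.Agent.Lib.Helper47.ES9.cyclic_or_quat h2 huniq with hc | ⟨n, ⟨φ⟩⟩
  · left
    refine ⟨hc, ?_⟩
    obtain ⟨x, hx⟩ := IsCyclic.exists_generator (α := X)
    have h1 : orderOf x = Nat.card X := orderOf_eq_card_of_forall_mem_zpowers hx
    have h3 : Nat.card X ∣ 4 := by rw [← h1]; exact orderOf_dvd_of_pow_eq_one (h4 x)
    have h5 : 4 ∣ Nat.card X := by rw [← hg]; exact orderOf_dvd_natCard g
    exact Nat.dvd_antisymm h3 h5
  · have h1 : orderOf (φ.symm (QuaternionGroup.a 1)) = 2 * 2 ^ n := by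
      rw [MulEquiv.orderOf_eq, QuaternionGroup.orderOf_a_one]
    have h3 : 2 * 2 ^ n ∣ 4 := by rw [← h1]; exact orderOf_dvd_of_pow_eq_one (h4 _)
    have hn : n ≤ 1 := by
      by_contra hcon
      have h5 : 2 ^ 2 ≤ 2 ^ n := Nat.pow_le_pow_right (by norm_num) (by omega)
      have h6 := Nat.le_of_dvd (by norm_num) h3
      omega
    obtain rfl | rfl : n = 0 ∨ n = 1 := by omega
    · left
      have φ' : X ≃* QuaternionGroup 1 := φ
      have := QuaternionGroup.quaternionGroup_one_isCyclic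
      refine ⟨isCyclic_of_surjective φ'.symm φ'.symm.surjective, ?_⟩
      rw [Nat.card_congr φ'.toEquiv, Nat.card_eq_fintype_card, QuaternionGroup.card]
    · right
      exact ⟨φ⟩

end Cfsg.Agent.Lib.Helper29.E4
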