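import Cfsg.Agent.Lib.Helper29.E4.Defs

set_option autoImplicit false

namespace Cfsg.Agent.Lib.Helper29.E4

variable {G : Type*} [Group G]

/-- `V = Q ⊓ centralizer Q` (normal: `Q` normal, `Subgroup.centralizer` of a normal subgroup is normal).  Nontrivial because `↥Q` is a
nontrivial 2-group (`IsPGroup.center_nontrivial`), an element of `center ↥Q` gives an element of `V`. -/
theorem exists_V [Finite G] (Q : Subgroup G) [Q.Normal] (hQ4 : ∀ x ∈ Q, x ^ 4 = 1) (hQ1 : Q ≠ ⊥) :
    ∃ V : Subgroup G, V.Normal ∧ V ≠ ⊥ ∧ V ≤ Q ∧ ∀ v ∈ V, ∀ w ∈ V, v * w = w * v := by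
  have : Fact (Nat.Prime 2) := ⟨Nat.prime_two⟩
  have hp : IsPGroup 2 Q := by
    intro x
    refine ⟨2, ?_⟩
    apply Subtype.ext
    have := hQ4 x.1 x.2
    simpa using this
  have : Nontrivial Q := (Subgroup.nontrivial_iff_ne_bot Q).2 hQ1
  have := hp.center_nontrivial
  obtain ⟨z, hz⟩ := exists_ne (1 : Subgroup.center Q)
  have : (Subgroup.centralizer (Q : Set G)).Normal := inferInstance
  refine ⟨Q ⊓ Subgroup.centralizer (Q : Set G), inferInstance, ?_, inf_le_left, ?_⟩
  · intro hbot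
    apply hz
    have hmem : (z.1.1 : G) ∈ Q ⊓ Subgroup.centralizer (Q : Set G) := by
      refine Subgroup.mem_inf.2 ⟨z.1.2, ?_⟩
      rw [Subgroup.mem_centralizer_iff]
      intro q hq
      have := (Subgroup.mem_center_iff.1 z.2) ⟨q, hq⟩
      exact congrArg (fun y : Q => y.1) this
    rw [hbot, Subgroup.mem_bot] at hmem
    apply Subtype.ext
    apply Subtype.ext
    simpa using hmem
  · intro v hv w hw
    have := (Subgroup.mem_centralizer_iff.1 (Subgroup.mem_inf.1 hw).2) v (Subgroup.mem_inf.1 hv).1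
    exact this

end Cfsg.Agent.Lib.Helper29.E4
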