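import Cfsg.Agent.Lib.Helper29.E4.Defs

set_option autoImplicit false

namespace Cfsg.Agent.Lib.Helper29.E4

variable {G : Type*} [Group G]

theorem B1a_comm {A : Type*} [Monoid A] (hc : ∀ a b : A, a * b = b * a)
    (v b1 b2 m11 m22 m12 m21 : A) (R2 : v * b1 * b2 = 1) (R3 : v * m11 * m22 = 1)
    (R4 : v * m12 * m21 = 1) (R5 : b1 * m11 * m21 = 1) (R6 : b2 * m12 * m22 = 1) :
    v * v * v = 1 := by
  have : Std.Commutative (α := A) (· * ·) := ⟨hc⟩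
  have key : v * v * v * ((b1 * m11 * m21) * (b2 * m12 * m22)) =
      (v * b1 * b2) * (v * m11 * m22) * (v * m12 * m21) := by ac_rfl
  rw [R2, R3, R4, R5, R6] at key
  simpa using key

theorem B1a_norm (hG : H34 G) (V : Subgroup G) [V.Normal] (hV4 : ∀ v ∈ V, v ^ 4 = 1)
    (hVab : ∀ v ∈ V, ∀ w ∈ V, v * w = w * v) (e : G) (he : e ^ 3 = 1) (he1 : e ≠ 1) (v : G)
    (hv : v ∈ V) : v * (e * v * e⁻¹) * (e⁻¹ * v * e) = 1 := by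
  have hn : V.Normal := inferInstance
  have h1 : e * v * e⁻¹ ∈ V := hn.conj_mem v hv e
  have h2 : e⁻¹ * v * e ∈ V := by
    have := hn.conj_mem v hv e⁻¹
    rwa [inv_inv] at this
  have hw : v * (e * v * e⁻¹) * (e⁻¹ * v * e) ∈ V := V.mul_mem (V.mul_mem hv h1) h2
  have he2 : e * e = e⁻¹ := by
    apply eq_inv_of_mul_eq_one_left
    rw [← he]
    simp [pow_succ]
  have he2' : e⁻¹ * e⁻¹ = e := by
    rw [← mul_inv_rev, he2, inv_inv]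
  have hcomm : e * (v * (e * v * e⁻¹) * (e⁻¹ * v * e)) * e⁻¹ =
      v * (e * v * e⁻¹) * (e⁻¹ * v * e) := by
    have e1 : e * (v * (e * v * e⁻¹) * (e⁻¹ * v * e)) * e⁻¹ =
        (e * v * e⁻¹) * ((e * e) * v * (e⁻¹ * e⁻¹)) * v := by group
    rw [e1, he2, he2']
    rw [hVab _ (V.mul_mem h1 h2) v hv]
    group
  have hc : Commute e (v * (e * v * e⁻¹) * (e⁻¹ * v * e)) := mul_inv_eq_iff_eq_mul.1 hcomm
  rcases hG.no_comm he (hV4 _ hw) hc with h | h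
  · exact absurd h he1
  · exact h

theorem no_c3c3 (hG : H34 G) (V : Subgroup G) [V.Normal] (hV4 : ∀ v ∈ V, v ^ 4 = 1)
    (hVab : ∀ v ∈ V, ∀ w ∈ V, v * w = w * v) (hV1 : V ≠ ⊥) (x y : G) (hx : x ^ 3 = 1) (hy : y ^ 3 = 1)
    (hxy : Commute x y) (hx1 : x ≠ 1) (hy1 : y ≠ 1) (h1 : x * y ≠ 1) (h2 : x * y⁻¹ ≠ 1) : False := by
  have hn : V.Normal := inferInstance
  apply hV1
  rw [Subgroup.eq_bot_iff_forall]
  intro v hv
  have cj : ∀ g : G, g * v * g⁻¹ ∈ V := fun g => hn.conj_mem v hv g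
  have cj' : ∀ g : G, g⁻¹ * v * g ∈ V := fun g => by
    have := hn.conj_mem v hv g⁻¹
    rwa [inv_inv] at this
  have hxy3 : (x * y) ^ 3 = 1 := by rw [hxy.mul_pow, hx, hy, one_mul]
  have hxy3' : (x * y⁻¹) ^ 3 = 1 := by
    rw [hxy.inv_right.mul_pow, hx, inv_pow, hy, inv_one, one_mul]
  have R2 := B1a_norm hG V hV4 hVab y hy hy1 v hv
  have R3 := B1a_norm hG V hV4 hVab (x * y) hxy3 h1 v hv
  have R4 := B1a_norm hG V hV4 hVab (x * y⁻¹) hxy3' h2 v hv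
  have R5 := B1a_norm hG V hV4 hVab x hx hx1 (y * v * y⁻¹) (cj y)
  have R6 := B1a_norm hG V hV4 hVab x hx hx1 (y⁻¹ * v * y) (cj' y)
  have c1 : x⁻¹ * y = y * x⁻¹ := hxy.inv_left.eq
  have c2 : y⁻¹ * x = x * y⁻¹ := hxy.inv_right.eq.symm
  have c3 : x⁻¹ * y⁻¹ = y⁻¹ * x⁻¹ := hxy.inv_inv.eq
  have c4 : y * x = x * y := hxy.eq.symm
  have e1 : x * (y * v * y⁻¹) * x⁻¹ = (x * y) * v * (x * y)⁻¹ := by group
  have e2 : x⁻¹ * (y * v * y⁻¹) * x = (x * y⁻¹)⁻¹ * v * (x * y⁻¹) := by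
    calc x⁻¹ * (y * v * y⁻¹) * x = (x⁻¹ * y) * v * (y⁻¹ * x) := by group
      _ = (y * x⁻¹) * v * (x * y⁻¹) := by rw [c1, c2]
      _ = (x * y⁻¹)⁻¹ * v * (x * y⁻¹) := by group
  have e3 : x * (y⁻¹ * v * y) * x⁻¹ = (x * y⁻¹) * v * (x * y⁻¹)⁻¹ := by group
  have e4 : x⁻¹ * (y⁻¹ * v * y) * x = (x * y)⁻¹ * v * (x * y) := by
    calc x⁻¹ * (y⁻¹ * v * y) * x = (x⁻¹ * y⁻¹) * v * (y * x) := by group
      _ = (y⁻¹ * x⁻¹) * v * (x * y) := by rw [c3, c4]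
      _ = (x * y)⁻¹ * v * (x * y) := by group
  rw [e1, e2] at R5
  rw [e3, e4] at R6
  have key := B1a_comm (A := ↥V) (fun a b => Subtype.ext (hVab a a.2 b b.2))
    ⟨v, hv⟩ ⟨_, cj y⟩ ⟨_, cj' y⟩ ⟨_, cj (x * y)⟩ ⟨_, cj' (x * y)⟩ ⟨_, cj (x * y⁻¹)⟩
    ⟨_, cj' (x * y⁻¹)⟩ (Subtype.ext R2) (Subtype.ext R3) (Subtype.ext R4) (Subtype.ext R5)
    (Subtype.ext R6)
  have key' : v * v * v = 1 := congrArg Subtype.val key
  exact eq_one_of_pow3_pow4 (by rw [← key']; simp [pow_succ]) (hV4 v hv)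

end Cfsg.Agent.Lib.Helper29.E4
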