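import Cfsg.Agent.Lib.Helper29.E4.Defs

set_option autoImplicit false

namespace Cfsg.Agent.Lib.Helper29.E4

variable {G : Type*} [Group G]

theorem sylow3_card [Finite G] (hG : H34 G)
    (hno : ∀ x y : G, x ^ 3 = 1 → y ^ 3 = 1 → Commute x y → x ≠ 1 → y ≠ 1 → x * y ≠ 1 → x * y⁻¹ ≠ 1 → False)
    (g : G) (hg : orderOf g = 3) (P : Sylow 3 G) : Nat.card P = 3 := by
  haveI : Fact (Nat.Prime 3) := ⟨Nat.prime_three⟩
  have h3 : 3 ∣ Nat.card G := by rw [← hg]; exact orderOf_dvd_natCard g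
  have hPne : (P : Subgroup G) ≠ ⊥ := P.ne_bot_of_dvd_card h3
  haveI : Nontrivial (P : Subgroup G) := (Subgroup.nontrivial_iff_ne_bot _).2 hPne
  have hP3 : ∀ x ∈ P, x ^ 3 = 1 := by
    intro x hx
    rcases hG x with h | h
    · exact h
    · obtain ⟨k, hk⟩ := P.2 ⟨x, hx⟩
      have hk' : x ^ 3 ^ k = 1 := by
        have := congrArg Subtype.val hk
        simpa using this
      have d1 : orderOf x ∣ 4 := orderOf_dvd_of_pow_eq_one h
      have d2 : orderOf x ∣ 3 ^ k := orderOf_dvd_of_pow_eq_one hk'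
      have hcop : Nat.Coprime 4 (3 ^ k) := Nat.Coprime.pow_right k (by norm_num)
      have d3 : orderOf x ∣ 1 := by
        have := Nat.dvd_gcd d1 d2
        rwa [hcop] at this
      have : x = 1 := orderOf_eq_one_iff.1 (Nat.dvd_one.1 d3)
      rw [this, one_pow]
  haveI := P.2.center_nontrivial
  obtain ⟨z, hz⟩ := exists_ne (1 : Subgroup.center (P : Subgroup G))
  obtain ⟨x, hx⟩ : ∃ x : G, x = ((z : (P : Subgroup G)) : G) := ⟨_, rfl⟩
  have hxP : x ∈ P := by rw [hx]; exact (z : (P : Subgroup G)).2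
  have hx1 : x ≠ 1 := by
    intro h1
    apply hz
    apply Subtype.ext
    apply Subtype.ext
    rw [← hx, h1]; rfl
  have hxc : ∀ y ∈ P, Commute x y := by
    intro y hy
    have h1 := Subgroup.mem_center_iff.1 z.2 ⟨y, hy⟩
    have h2 := congrArg Subtype.val h1
    rw [hx]
    exact h2.symm
  have hox : orderOf x = 3 := orderOf_eq_prime (hP3 x hxP) hx1
  by_contra hne
  have hex : ∃ y ∈ P, y ∉ Subgroup.zpowers x := by
    by_contra hcon
    push Not at hcon
    apply hne
    have heq : (P : Subgroup G) = Subgroup.zpowers x :=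
      le_antisymm hcon (Subgroup.zpowers_le.2 hxP)
    have : Nat.card (P : Subgroup G) = 3 := by rw [heq, Nat.card_zpowers, hox]
    exact this
  obtain ⟨y, hyP, hyx⟩ := hex
  refine hno x y (hP3 x hxP) (hP3 y hyP) (hxc y hyP) hx1 ?_ ?_ ?_
  · rintro rfl
    exact hyx (Subgroup.one_mem _)
  · intro h1
    apply hyx
    have : y = x⁻¹ := (inv_eq_of_mul_eq_one_right h1).symm
    rw [this]
    exact Subgroup.inv_mem _ (Subgroup.mem_zpowers x)
  · intro h1
    apply hyx
    have : x = y := by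
      rw [mul_inv_eq_one] at h1; exact h1
    rw [← this]
    exact Subgroup.mem_zpowers x

end Cfsg.Agent.Lib.Helper29.E4
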