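import Cfsg.Agent.Lib.Helper29.E4.Defs

set_option autoImplicit false

namespace Cfsg.Agent.Lib.Helper29.E4

variable {G : Type*} [Group G]

theorem card_of_self_centralizing_three {X : Type*} [Group X] [Finite X] (N : Subgroup X) [N.Normal]
    (hN : Nat.card N = 3) (hc : Subgroup.centralizer (N : Set X) ≤ N) :
    Nat.card X = 3 ∨ Nat.card X = 6 := by
  have : Fact (Nat.Prime 3) := ⟨Nat.prime_three⟩
  have hcyc : IsCyclic ↥N := isCyclic_of_prime_card hN
  have hker : (MulAut.conjNormal (H := N)).ker = N := by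
    apply le_antisymm
    · intro x hx
      apply hc
      rw [Subgroup.mem_centralizer_iff]
      intro y hy
      have h1 : MulAut.conjNormal x (⟨y, hy⟩ : ↥N) = ⟨y, hy⟩ := by
        rw [MonoidHom.mem_ker.1 hx]
        rfl
      have h2 : x * y * x⁻¹ = y := by
        have := congrArg Subtype.val h1
        simpa using this
      exact (mul_inv_eq_iff_eq_mul.1 h2).symm
    · intro x hx
      rw [MonoidHom.mem_ker]
      ext ⟨y, hy⟩
      have h1 : (⟨x, hx⟩ : ↥N) * ⟨y, hy⟩ = ⟨y, hy⟩ * ⟨x, hx⟩ := by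
        have := hcyc.isMulCommutative
        exact mul_comm' _ _
      have h2 : x * y = y * x := congrArg Subtype.val h1
      simp [h2]
  have hidx : N.index ∣ 2 := by
    have h1 := Subgroup.index_ker (MulAut.conjNormal (H := N))
    rw [hker] at h1
    rw [h1]
    have h2 : Nat.card (MulAut ↥N) = 2 := by
      rw [IsCyclic.card_mulAut, hN, Nat.totient_prime Nat.prime_three]
    rw [← h2]
    exact Subgroup.card_subgroup_dvd_card _
  have h3 := Subgroup.card_mul_index N
  rw [hN] at h3
  rcases (Nat.dvd_prime Nat.prime_two).1 hidx with h | h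
  · left; rw [← h3, h]
  · right; rw [← h3, h]

theorem card_eq_three {X : Type*} [Group X] [Finite X] (N : Subgroup X) (hN3 : ∀ x ∈ N, x ^ 3 = 1)
    (hN1 : N ≠ ⊥) (h9 : ¬ 9 ∣ Nat.card X) : Nat.card N = 3 := by
  have : Fact (Nat.Prime 3) := ⟨Nat.prime_three⟩
  have hp : IsPGroup 3 ↥N := fun y => ⟨1, by
    apply Subtype.ext
    simpa using hN3 y y.2⟩
  obtain ⟨k, hk⟩ := IsPGroup.iff_card.1 hp
  have hk0 : k ≠ 0 := by
    rintro rfl
    exact hN1 (Subgroup.eq_bot_of_card_eq N (by simpa using hk))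
  have hk1 : k ≤ 1 := by
    by_contra hcon
    apply h9
    have h1 : 3 ^ 2 ∣ 3 ^ k := pow_dvd_pow 3 (by omega)
    rw [← hk] at h1
    exact h1.trans (Subgroup.card_subgroup_dvd_card N)
  have : k = 1 := by omega
  rw [hk, this, pow_one]

end Cfsg.Agent.Lib.Helper29.E4
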