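import Cfsg.Agent.Lib.Helper29.E4.Defs

set_option autoImplicit false

namespace Cfsg.Agent.Lib.Helper29.E4

variable {G : Type*} [Group G]

theorem quot_no_normal4 (hG : H34 G) (Q : Subgroup G) [Q.Normal] (hQ4 : ∀ x ∈ Q, x ^ 4 = 1)
    (hmax : ∀ M : Subgroup G, M.Normal → (∀ x ∈ M, x ^ 4 = 1) → M ≤ Q) :
    ∀ M : Subgroup (G ⧸ Q), M.Normal → (∀ x ∈ M, x ^ 4 = 1) → M = ⊥ := by
  intro M hMn hM4
  have h1 : M.comap (QuotientGroup.mk' Q) ≤ Q := by
    apply hmax _ (hMn.comap _)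
    intro m hm
    have h2 : (QuotientGroup.mk' Q m) ^ 4 = 1 := hM4 _ hm
    rw [← map_pow, QuotientGroup.mk'_apply, QuotientGroup.eq_one_iff] at h2
    have h3 : (m ^ 4) ^ 4 = 1 := hQ4 _ h2
    rcases hG m with h | h
    · have h4 : m = 1 := by
        have h5 : m ^ 16 = 1 := by rw [← h3, ← pow_mul]
        have h6 : m ^ 16 = (m ^ 3) ^ 5 * m := by rw [← pow_mul, ← pow_succ]
        rw [h5, h, one_pow, one_mul] at h6
        exact h6.symm
      rw [h4, one_pow]
    · exact h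
  rw [eq_bot_iff]
  intro x hx
  induction x using QuotientGroup.induction_on with
  | H g =>
    have h2 : g ∈ M.comap (QuotientGroup.mk' Q) := hx
    rw [Subgroup.mem_bot, QuotientGroup.eq_one_iff]
    exact h1 h2

theorem quot_not_nine [Finite G] (P : Sylow 3 G) (hP : Nat.card P = 3) (Q : Subgroup G) [Q.Normal] :
    ¬ 9 ∣ Nat.card (G ⧸ Q) := by
  intro h9
  haveI : Fact (Nat.Prime 3) := ⟨Nat.prime_three⟩
  have h1 : Nat.card (G ⧸ Q) ∣ Nat.card G := by
    rw [Subgroup.card_eq_card_quotient_mul_card_subgroup Q]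
    exact Dvd.intro _ rfl
  have h2 : 3 ^ 2 ∣ Nat.card G := by
    have : (9 : ℕ) = 3 ^ 2 := by norm_num
    rw [← this]; exact h9.trans h1
  have h3 := P.card_eq_multiplicity
  rw [hP] at h3
  have h4 : 2 ≤ (Nat.card G).factorization 3 :=
    (Nat.Prime.pow_dvd_iff_le_factorization Nat.prime_three Nat.card_pos.ne').1 h2
  have h5 : 3 ^ 2 ≤ 3 ^ (Nat.card G).factorization 3 := Nat.pow_le_pow_right (by norm_num) h4
  omega

end Cfsg.Agent.Lib.Helper29.E4
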