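import Cfsg.Agent.Lib.Helper29.E4.Defs

set_option autoImplicit false

namespace Cfsg.Agent.Lib.Helper29.E4

variable {G : Type*} [Group G]

theorem caseB3 (Q : Subgroup G) [Q.Normal] (hQ4 : ∀ x ∈ Q, x ^ 4 = 1)
    (hidx : Nat.card (G ⧸ Q) = 3) (g₄ : G) (h4 : orderOf g₄ = 4) (hcl : Group.nilpotencyClass Q ≤ 2) :
    IsPGroup 2 Q ∧ Monoid.exponent Q = 4 ∧ Group.nilpotencyClass Q ≤ 2 ∧ Q.index = 3 := by
  have hQ4' : ∀ x : Q, x ^ 4 = 1 := fun x => Subtype.ext (by simpa using hQ4 x.1 x.2)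
  have hg : g₄ ∈ Q := by
    rw [← QuotientGroup.eq_one_iff]
    apply eq_one_of_pow3_pow4
    · rw [← hidx]; exact pow_card_eq_one'
    · rw [← QuotientGroup.mk_pow, ← h4, pow_orderOf_eq_one]; rfl
  refine ⟨?_, ?_, hcl, hidx⟩
  · intro x
    exact ⟨2, by norm_num; exact hQ4' x⟩
  · apply Nat.dvd_antisymm
    · exact Monoid.exponent_dvd_of_forall_pow_eq_one hQ4'
    · have h1 := Monoid.order_dvd_exponent (⟨g₄, hg⟩ : Q)
      rwa [Subgroup.orderOf_mk, h4] at h1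

theorem conj_fpf (hG : H34 G) (Q : Subgroup G) [Q.Normal] (hQ4 : ∀ x ∈ Q, x ^ 4 = 1) (d : G)
    (hd3 : d ^ 3 = 1) (hd1 : d ≠ 1) : Fpf3 (MulAut.conjNormal d : ↥Q ≃* ↥Q) := by
  constructor
  · intro x
    apply Subtype.ext
    simp only [MulAut.conjNormal_apply]
    calc d * (d * (d * (x : G) * d⁻¹) * d⁻¹) * d⁻¹ = d ^ 3 * x * (d ^ 3)⁻¹ := by
          rw [pow_succ, pow_succ, pow_one]; group
      _ = x := by rw [hd3]; group
  · intro x hx
    have h1 : d * (x : G) * d⁻¹ = x := by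
      have := congrArg Subtype.val hx
      simpa only [MulAut.conjNormal_apply] using this
    have h2 : Commute d (x : G) := mul_inv_eq_iff_eq_mul.1 h1
    rcases hG.no_comm hd3 (hQ4 x.1 x.2) h2 with h | h
    · exact absurd h hd1
    · exact Subtype.ext h

end Cfsg.Agent.Lib.Helper29.E4
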