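import Cfsg.Agent.Lib.Helper29.E4.Defs

set_option autoImplicit false

namespace Cfsg.Agent.Lib.Helper29.E4

variable {G : Type*} [Group G]

/-- a complement `⟨d, t⟩ ≅ S₃` to `Q` when `G ⧸ Q` has order 6. -/
theorem exists_dt [Finite G] (hG : H34 G) (Q : Subgroup G) [Q.Normal] (hQ4 : ∀ x ∈ Q, x ^ 4 = 1)
    (hsurj : ∀ d : G, d ^ 3 = 1 → d ≠ 1 → ∀ q ∈ Q, ∃ u ∈ Q, q = u⁻¹ * (d⁻¹ * u * d))
    (hcard : Nat.card (G ⧸ Q) = 6) :
    ∃ d t : G, d ^ 3 = 1 ∧ d ≠ 1 ∧ t ^ 2 = 1 ∧ t ∉ Q ∧ t * d * t⁻¹ = d⁻¹ := by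
  have : Fact (Nat.Prime 3) := ⟨by norm_num⟩
  have : Fact (Nat.Prime 2) := ⟨by norm_num⟩
  obtain ⟨D, hD⟩ := exists_prime_orderOf_dvd_card' (G := G ⧸ Q) 3 (by rw [hcard]; norm_num)
  obtain ⟨T, hT⟩ := exists_prime_orderOf_dvd_card' (G := G ⧸ Q) 2 (by rw [hcard]; norm_num)
  obtain ⟨d, rfl⟩ := QuotientGroup.mk'_surjective Q D
  obtain ⟨t₀, rfl⟩ := QuotientGroup.mk'_surjective Q T
  set π := QuotientGroup.mk' Q with hπ
  have hD3 : (π d) ^ 3 = 1 := by rw [← hD]; exact pow_orderOf_eq_one _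
  have hT2 : (π t₀) ^ 2 = 1 := by rw [← hT]; exact pow_orderOf_eq_one _
  have hD1 : π d ≠ 1 := by
    intro h
    rw [h, orderOf_one] at hD
    omega
  have hT1 : π t₀ ≠ 1 := by
    intro h
    rw [h, orderOf_one] at hT
    omega
  have hd1 : d ≠ 1 := by
    rintro rfl
    exact hD1 (map_one π)
  have hd3 : d ^ 3 = 1 := by
    rcases hG d with h | h
    · exact h
    · exfalso
      have h4 : (π d) ^ 4 = 1 := by rw [← map_pow, h, map_one]
      exact hD1 (eq_one_of_pow3_pow4 hD3 h4)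
  have hT4 : (π t₀) ^ 4 = 1 := by
    have : (π t₀) ^ 4 = ((π t₀) ^ 2) ^ 2 := by rw [← pow_mul]
    rw [this, hT2, one_pow]
  -- `zpowers (π d)` is normal
  have hidx : (Subgroup.zpowers (π d)).index = 2 := by
    have h1 := (Subgroup.zpowers (π d)).card_mul_index
    rw [Nat.card_zpowers, hD, hcard] at h1
    omega
  have hnorm : (Subgroup.zpowers (π d)).Normal := Subgroup.normal_of_index_eq_two hidx
  have hmem : π t₀ * π d * (π t₀)⁻¹ ∈ Subgroup.zpowers (π d) :=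
    hnorm.conj_mem _ (Subgroup.mem_zpowers _) _
  obtain ⟨k, hk⟩ := Subgroup.mem_zpowers_iff.1 hmem
  have hk' : (π d) ^ (k % 3) = π t₀ * π d * (π t₀)⁻¹ := by
    have := zpow_mod_orderOf (π d) k
    rw [hD] at this
    rw [← hk]
    exact this
  have hinv : π t₀ * π d * (π t₀)⁻¹ = (π d)⁻¹ := by
    have hk0 : 0 ≤ k % 3 := Int.emod_nonneg _ (by norm_num)
    have hk3 : k % 3 < 3 := Int.emod_lt_of_pos _ (by norm_num)
    generalize k % 3 = m at hk' hk0 hk3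
    interval_cases m
    · exfalso
      rw [zpow_zero] at hk'
      apply hD1
      have : π d = (π t₀)⁻¹ * (π t₀ * π d * (π t₀)⁻¹) * π t₀ := by group
      rw [this, ← hk']
      group
    · exfalso
      rw [zpow_one] at hk'
      have hc : Commute (π d) (π t₀) := by
        show π d * π t₀ = π t₀ * π d
        calc π d * π t₀ = (π t₀ * π d * (π t₀)⁻¹) * π t₀ := by rw [← hk']
          _ = π t₀ * π d := by group
      rcases (hG.quotient Q).no_comm hD3 hT4 hc with h | h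
      · exact hD1 h
      · exact hT1 h
    · rw [← hk']
      have : (π d) ^ (2 : ℤ) * π d = 1 := by
        have e : (π d) ^ (2 : ℤ) * π d = (π d) ^ 3 := by
          rw [pow_succ]
          norm_cast
        rw [e, hD3]
      exact eq_inv_of_mul_eq_one_left this
  have hq : t₀ * d * t₀⁻¹ * d ∈ Q := by
    rw [← QuotientGroup.eq_one_iff, ← QuotientGroup.mk'_apply, ← hπ]
    rw [map_mul, map_mul, map_mul, map_inv, hinv, inv_mul_cancel]
  obtain ⟨u, hu, huq⟩ := hsurj d hd3 hd1 _ hq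
  have hconj : t₀ * d * t₀⁻¹ = u⁻¹ * d⁻¹ * u := by
    calc t₀ * d * t₀⁻¹ = (t₀ * d * t₀⁻¹ * d) * d⁻¹ := by group
      _ = (u⁻¹ * (d⁻¹ * u * d)) * d⁻¹ := by rw [huq]
      _ = u⁻¹ * d⁻¹ * u := by group
  have htd : (u * t₀) * d * (u * t₀)⁻¹ = d⁻¹ := by
    calc (u * t₀) * d * (u * t₀)⁻¹ = u * (t₀ * d * t₀⁻¹) * u⁻¹ := by group
      _ = u * (u⁻¹ * d⁻¹ * u) * u⁻¹ := by rw [hconj]
      _ = d⁻¹ := by group
  have hπu : π u = 1 := by
    rw [hπ, QuotientGroup.mk'_apply, QuotientGroup.eq_one_iff]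
    exact hu
  have hπt : π (u * t₀) = π t₀ := by rw [map_mul, hπu, one_mul]
  have htQ : u * t₀ ∉ Q := by
    intro h
    apply hT1
    rw [← hπt, hπ, QuotientGroup.mk'_apply, QuotientGroup.eq_one_iff]
    exact h
  refine ⟨d, u * t₀, hd3, hd1, ?_, htQ, htd⟩
  set t := u * t₀ with ht
  have ht4 : t ^ 4 = 1 := by
    rcases hG t with h | h
    · exfalso
      have h3 : (π t₀) ^ 3 = 1 := by rw [← hπt, ← map_pow, h, map_one]
      exact hT1 (eq_one_of_pow3_pow4 h3 hT4)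
    · exact h
  have ht8 : (t ^ 2) ^ 4 = 1 := by
    have : (t ^ 2) ^ 4 = (t ^ 4) ^ 2 := by rw [← pow_mul, ← pow_mul]
    rw [this, ht4, one_pow]
  have hc : Commute d (t ^ 2) := by
    show d * t ^ 2 = t ^ 2 * d
    have e1 : t * d⁻¹ * t⁻¹ = d := by
      have : t * d⁻¹ * t⁻¹ = (t * d * t⁻¹)⁻¹ := by group
      rw [this, htd, inv_inv]
    calc d * t ^ 2 = (t * d⁻¹ * t⁻¹) * t ^ 2 := by rw [e1]
      _ = (t * (t * d * t⁻¹) * t⁻¹) * t ^ 2 := by rw [htd]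
      _ = t ^ 2 * d := by rw [pow_two]; group
  rcases hG.no_comm hd3 ht8 hc with h | h
  · exact absurd h hd1
  · exact h

end Cfsg.Agent.Lib.Helper29.E4
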