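import Cfsg.Agent.Lib.Helper29.E4.Defs
import Cfsg.Agent.Lib.Helper47.PCore

set_option autoImplicit false

namespace Cfsg.Agent.Lib.Helper29.E4

variable {G : Type*} [Group G]

open Cfsg in
theorem exists_core3 [Finite G] (hG : H34 G) : ∃ N : Subgroup G, N.Normal ∧ (∀ x ∈ N, x ^ 3 = 1) ∧
    ∀ M : Subgroup G, M.Normal → (∀ x ∈ M, x ^ 3 = 1) → M ≤ N := by
  have : Fact (Nat.Prime 3) := ⟨Nat.prime_three⟩
  refine ⟨pCore 3 G, Cfsg.Agent.Lib.Helper47.pCore_normal, ?_, ?_⟩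
  · intro x hx
    rcases hG x with h | h
    · exact h
    · obtain ⟨k, hk⟩ := (Cfsg.Agent.Lib.Helper47.pCore_isPGroup (p := 3) (G := G)) ⟨x, hx⟩
      have hk' : x ^ 3 ^ k = 1 := congrArg Subtype.val hk
      have h1 : orderOf x ∣ Nat.gcd (3 ^ k) 4 :=
        Nat.dvd_gcd (orderOf_dvd_of_pow_eq_one hk') (orderOf_dvd_of_pow_eq_one h)
      have h2 : Nat.gcd (3 ^ k) 4 = 1 := Nat.Coprime.pow_left k (by norm_num)
      rw [h2, Nat.dvd_one, orderOf_eq_one_iff] at h1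
      rw [h1, one_pow]
  · intro M hM hM3
    apply Cfsg.Agent.Lib.Helper47.le_pCore hM
    intro x
    exact ⟨1, Subtype.ext (by simpa using hM3 x.1 x.2)⟩

open Cfsg in
theorem exists_core4 [Finite G] (hG : H34 G) : ∃ Q : Subgroup G, Q.Normal ∧ (∀ x ∈ Q, x ^ 4 = 1) ∧
    ∀ M : Subgroup G, M.Normal → (∀ x ∈ M, x ^ 4 = 1) → M ≤ Q := by
  have : Fact (Nat.Prime 2) := ⟨Nat.prime_two⟩
  refine ⟨pCore 2 G, Cfsg.Agent.Lib.Helper47.pCore_normal, ?_, ?_⟩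
  · intro x hx
    rcases hG x with h | h
    · obtain ⟨k, hk⟩ := (Cfsg.Agent.Lib.Helper47.pCore_isPGroup (p := 2) (G := G)) ⟨x, hx⟩
      have hk' : x ^ 2 ^ k = 1 := congrArg Subtype.val hk
      have h1 : orderOf x ∣ Nat.gcd (2 ^ k) 3 :=
        Nat.dvd_gcd (orderOf_dvd_of_pow_eq_one hk') (orderOf_dvd_of_pow_eq_one h)
      have h2 : Nat.gcd (2 ^ k) 3 = 1 := Nat.Coprime.pow_left k (by norm_num)
      rw [h2, Nat.dvd_one, orderOf_eq_one_iff] at h1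
      rw [h1, one_pow]
    · exact h
  · intro M hM hM4
    apply Cfsg.Agent.Lib.Helper47.le_pCore hM
    intro x
    exact ⟨2, Subtype.ext (by simpa using hM4 x.1 x.2)⟩

end Cfsg.Agent.Lib.Helper29.E4
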