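import Cfsg.Agent.Lib.Helper29.E4.Defs

set_option autoImplicit false

namespace Cfsg.Agent.Lib.Helper29.E4

variable {G : Type*} [Group G]

/-- `(v τ)^3 = 1` is impossible: in `G ⧸ Q` it gives `(mk τ)^3 = 1`, with `(mk τ)^2 = 1` so `τ ∈ Q`.  So `(v τ)^4 = 1` by `hG`, and
`(v τ)^2 = v * (τ v τ⁻¹)` because `τ^2 = 1` (`τ⁻¹ = τ`). -/
theorem ctx_sq (hG : H34 G) (Q : Subgroup G) [Q.Normal] (τ : G) (hτ : τ ^ 2 = 1) (hτQ : τ ∉ Q)
    (v : G) (hv : v ∈ Q) : (v * (τ * v * τ⁻¹)) ^ 2 = 1 := by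
  have hinv : τ⁻¹ = τ := by
    rw [inv_eq_iff_mul_eq_one, ← sq]; exact hτ
  have hsq : (v * τ) ^ 2 = v * (τ * v * τ⁻¹) := by
    rw [hinv, sq]; group
  have h4 : (v * τ) ^ 4 = 1 := by
    rcases hG (v * τ) with h | h
    · exfalso
      apply hτQ
      have h1 : ((v * τ : G) : G ⧸ Q) = (τ : G ⧸ Q) := by
        rw [QuotientGroup.mk_mul, (QuotientGroup.eq_one_iff v).2 hv, one_mul]
      have h3 : ((τ : G) : G ⧸ Q) ^ 3 = 1 := by
        rw [← h1, ← QuotientGroup.mk_pow, h, QuotientGroup.mk_one]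
      have h2 : ((τ : G) : G ⧸ Q) ^ 2 = 1 := by
        rw [← QuotientGroup.mk_pow, hτ, QuotientGroup.mk_one]
      have : ((τ : G) : G ⧸ Q) = 1 := by
        have h5 : ((τ : G) : G ⧸ Q) ^ 3 = ((τ : G) : G ⧸ Q) ^ 2 * (τ : G ⧸ Q) := pow_succ _ 2
        rw [h3, h2, one_mul] at h5
        exact h5.symm
      exact (QuotientGroup.eq_one_iff τ).1 this
    · exact h
  rw [← hsq, ← pow_mul]
  exact h4

end Cfsg.Agent.Lib.Helper29.E4
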