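import Mathlib
import Cfsg.Prelude.Def_Transfer

/-! S4006 (finite groups with element orders exactly 1,2,3,4): definitions and basic tools. -/

set_option autoImplicit false

namespace Cfsg.Agent.Lib.Helper29.E4

/-- every element has order 1, 2, 3 or 4 -/
def H34 (G : Type*) [Group G] : Prop := ∀ g : G, g ^ 3 = 1 ∨ g ^ 4 = 1

variable {G : Type*} [Group G]

theorem eq_one_of_pow3_pow4 {g : G} (h3 : g ^ 3 = 1) (h4 : g ^ 4 = 1) : g = 1 := by
  have : g ^ 4 = g ^ 3 * g := pow_succ g 3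
  rw [h4, h3, one_mul] at this
  exact this.symm

theorem H34.of_surjective {H : Type*} [Group H] (hG : H34 G) (f : G →* H)
    (hf : Function.Surjective f) : H34 H := by
  intro y
  obtain ⟨g, rfl⟩ := hf y
  rcases hG g with h | h
  · left; rw [← map_pow, h, map_one]
  · right; rw [← map_pow, h, map_one]

theorem H34.quotient (hG : H34 G) (N : Subgroup G) [N.Normal] : H34 (G ⧸ N) :=
  hG.of_surjective (QuotientGroup.mk' N) (QuotientGroup.mk'_surjective N)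

theorem H34.subgroup (hG : H34 G) (K : Subgroup G) : H34 K := by
  intro y
  rcases hG y.1 with h | h
  · left; exact Subtype.ext (by simpa using h)
  · right; exact Subtype.ext (by simpa using h)

/-- no element of order 3 commutes with a nontrivial 2-element -/
theorem H34.no_comm (hG : H34 G) {x y : G} (hx : x ^ 3 = 1) (hy : y ^ 4 = 1) (hc : Commute x y) :
    x = 1 ∨ y = 1 := by
  rcases hG (x * y) with h | h
  · right
    rw [hc.mul_pow, hx, one_mul] at h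
    exact eq_one_of_pow3_pow4 h hy
  · left
    rw [hc.mul_pow, hy, mul_one] at h
    exact eq_one_of_pow3_pow4 hx h

/-- the setting of the last case: `Q` a normal 2-subgroup, `⟨d, t⟩ ≅ S₃` acting, `d` fixed point freely -/
structure Ctx (Q : Subgroup G) (d t : G) : Prop where
  nQ : Q.Normal
  q4 : ∀ v ∈ Q, v ^ 4 = 1
  d3 : d ^ 3 = 1
  t2 : t ^ 2 = 1
  tQ : t ∉ Q
  td : t * d * t⁻¹ = d⁻¹
  fpf : ∀ v ∈ Q, d * v * d⁻¹ = v → v = 1
  nrm : ∀ v ∈ Q, v * (d * v * d⁻¹) * (d⁻¹ * v * d) = 1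
  nrm' : ∀ v ∈ Q, (d⁻¹ * v * d) * (d * v * d⁻¹) * v = 1
  cl2 : ∀ x ∈ Q, ∀ y ∈ Q, ∀ z ∈ Q, (x * y * x⁻¹ * y⁻¹) * z = z * (x * y * x⁻¹ * y⁻¹)
  sq : ∀ τ : G, τ ^ 2 = 1 → τ ∉ Q → ∀ v ∈ Q, (v * (τ * v * τ⁻¹)) ^ 2 = 1

/-- `Ctx` plus: `D = [Q,Q]` is central in `Q`, of exponent 2, and contains all squares of `Q` -/
structure Ctx2 (Q : Subgroup G) (d t : G) : Prop extends Ctx Q d t where
  Dc : ∀ z ∈ ⁅Q, Q⁆, ∀ q ∈ Q, z * q = q * z
  D2 : ∀ z ∈ ⁅Q, Q⁆, z ^ 2 = 1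
  sqD : ∀ v ∈ Q, v ^ 2 ∈ ⁅Q, Q⁆

/-- `x` is fixed by `τ` modulo `[Q,Q]` -/
def Fix (Q : Subgroup G) (τ x : G) : Prop := τ * x * τ⁻¹ * x⁻¹ ∈ ⁅Q, Q⁆

/-- fixed-point-free automorphism of order (dividing) 3 -/
def Fpf3 {X : Type*} [Group X] (s : X ≃* X) : Prop :=
  (∀ x, s (s (s x)) = x) ∧ (∀ x, s x = x → x = 1)

end Cfsg.Agent.Lib.Helper29.E4
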