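import Cfsg.Agent.Lib.Helper29.E4.Defs
import Cfsg.Agent.Lib.Helper45.OutAbs

set_option autoImplicit false

namespace Cfsg.Agent.Lib.Helper29.E4

variable {G : Type*} [Group G]

theorem iso_S3 {X : Type*} [Group X] (hc : Nat.card X = 6) (d t : X) (hd : d ^ 3 = 1) (hd1 : d ≠ 1)
    (ht : t ^ 2 = 1) (ht1 : t ≠ 1) (htd : t * d * t⁻¹ = d⁻¹) : Nonempty (X ≃* Equiv.Perm (Fin 3)) := by
  apply Cfsg.Agent.Lib.Helper45.OutAbs.s3_of_card hc t d ht
  intro h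
  apply hd1
  rw [h, mul_inv_cancel_right] at htd
  have h2 : d ^ 2 = 1 := by
    rw [sq]
    nth_rewrite 1 [htd]
    exact inv_mul_cancel d
  have h3 : d ^ 3 = d ^ 2 * d := pow_succ d 2
  rw [hd, h2, one_mul] at h3
  exact h3.symm

end Cfsg.Agent.Lib.Helper29.E4
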