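import Cfsg.Agent.Lib.Helper29.E4.Defs

set_option autoImplicit false

namespace Cfsg.Agent.Lib.Helper29.E4

variable {G : Type*} [Group G]

variable {X : Type*} [Group X] [Finite X] (s : X ≃* X)

/-- `g ↦ g⁻¹ * s g` is injective, hence surjective. -/
theorem K1_surj (h : Fpf3 s) (y : X) : ∃ g : X, y = g⁻¹ * s g := by
  have hinj : Function.Injective (fun g : X => g⁻¹ * s g) := by
    intro g k hgk
    have hgk' : g⁻¹ * s g = k⁻¹ * s k := hgk
    have h1 : s (k * g⁻¹) = k * g⁻¹ := by
      rw [map_mul, map_inv]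
      have h2 : s k = k * g⁻¹ * s g := by rw [mul_assoc, hgk']; group
      rw [h2]; group
    have h2 := h.2 _ h1
    exact (mul_inv_eq_one.mp h2).symm
  obtain ⟨g, hg⟩ := Finite.surjective_of_injective hinj y
  exact ⟨g, hg.symm⟩

/-- the same for `g ↦ s g * g⁻¹`. -/
theorem K1_surj' (h : Fpf3 s) (y : X) : ∃ g : X, y = s g * g⁻¹ := by
  have hinj : Function.Injective (fun g : X => s g * g⁻¹) := by
    intro g k hgk
    have hgk' : s g * g⁻¹ = s k * k⁻¹ := hgk
    have h1 : s (k⁻¹ * g) = k⁻¹ * g := by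
      rw [map_mul, map_inv]
      have h2 : s g = s k * k⁻¹ * g := by rw [← hgk']; group
      rw [h2]; group
    have h2 := h.2 _ h1
    exact (inv_mul_eq_one.mp h2).symm
  obtain ⟨g, hg⟩ := Finite.surjective_of_injective hinj y
  exact ⟨g, hg.symm⟩

/-- write `y = g⁻¹ * s g`; the product telescopes. -/
theorem K1_nrm (h : Fpf3 s) (y : X) : y * s y * s (s y) = 1 := by
  obtain ⟨g, rfl⟩ := K1_surj s h y
  simp only [map_mul, map_inv, h.1]
  group

/-- write `y = s g * g⁻¹`; the product telescopes. -/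
theorem K1_nrm' (h : Fpf3 s) (y : X) : s (s y) * s y * y = 1 := by
  obtain ⟨g, rfl⟩ := K1_surj' s h y
  simp only [map_mul, map_inv, h.1]
  group

/-- from `K1_nrm`, `K1_nrm'`. -/
theorem K1_comm (h : Fpf3 s) (y : X) : Commute y (s y) := by
  have key : ∀ z, s z * s (s z) = s (s z) * s z := by
    intro z
    have a := K1_nrm s h z
    have b := K1_nrm' s h z
    have a' : s z * s (s z) = z⁻¹ := by
      rw [mul_assoc] at a
      exact eq_inv_of_mul_eq_one_right a
    have b' : s (s z) * s z = z⁻¹ := eq_inv_of_mul_eq_one_left b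
    rw [a', b']
  have h1 := key (s (s y))
  simp only [h.1] at h1
  exact h1

end Cfsg.Agent.Lib.Helper29.E4
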