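import Cfsg.Agent.Lib.Helper29.E4.Defs

set_option autoImplicit false

namespace Cfsg.Agent.Lib.Helper29.E4

variable {G : Type*} [Group G]

variable {X : Type*} [Group X] [Finite X] (s : X ≃* X)

/-- `s² = s⁻¹` is again fixed point free of order 3. -/
theorem K1_sq (h : Fpf3 s) : Fpf3 (s.trans s) := by
  constructor
  · intro x
    show s (s (s (s (s (s x))))) = x
    rw [h.1, h.1]
  · intro x hx
    have hx' : s (s x) = x := hx
    apply h.2
    have h1 := congrArg s hx'
    rw [h.1] at h1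
    exact h1.symm

/-- `τ x = g * s x * g⁻¹`. -/
theorem K1_tw (h : Fpf3 s) (hsurj : ∀ y : X, ∃ k : X, y = k⁻¹ * s k) (g : X) :
    Fpf3 (s.trans (MulAut.conj g)) := by
  obtain ⟨k, hk⟩ := hsurj g
  have hτ : ∀ x, (s.trans (MulAut.conj g)) x = k⁻¹ * s (k * x * k⁻¹) * k := by
    intro x
    show g * s x * g⁻¹ = _
    rw [hk]
    simp only [map_mul, map_inv]
    group
  have e : ∀ z, k * (k⁻¹ * z * k) * k⁻¹ = z := by intro z; group
  constructor
  · intro x
    rw [hτ, hτ, hτ, e, e, h.1]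
    group
  · intro x hx
    rw [hτ] at hx
    have h1 : s (k * x * k⁻¹) = k * x * k⁻¹ := by
      calc s (k * x * k⁻¹) = k * (k⁻¹ * s (k * x * k⁻¹) * k) * k⁻¹ := (e _).symm
        _ = k * x * k⁻¹ := by rw [hx]
    exact conj_eq_one_iff.mp (h.2 _ h1)

end Cfsg.Agent.Lib.Helper29.E4
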