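import Cfsg.Agent.Lib.Helper29.E4.Defs

set_option autoImplicit false

namespace Cfsg.Agent.Lib.Helper29.E4

variable {G : Type*} [Group G]

variable {X : Type*} [Group X] [Finite X] (s : X ≃* X)

theorem K2_a (hsurj : ∀ y : X, ∃ k : X, y = k⁻¹ * s k) (hcomm : ∀ y : X, Commute y (s y)) (x c : X) :
    Commute x (c * s x * c⁻¹) := by
  obtain ⟨k, rfl⟩ := hsurj c
  have h1 := hcomm (k * x * k⁻¹)
  rw [map_mul, map_mul, map_inv] at h1
  show x * (k⁻¹ * s k * s x * (k⁻¹ * s k)⁻¹) = (k⁻¹ * s k * s x * (k⁻¹ * s k)⁻¹) * x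
  calc x * (k⁻¹ * s k * s x * (k⁻¹ * s k)⁻¹)
      = k⁻¹ * ((k * x * k⁻¹) * (s k * s x * (s k)⁻¹)) * k := by group
    _ = k⁻¹ * ((s k * s x * (s k)⁻¹) * (k * x * k⁻¹)) * k := by rw [h1.eq]
    _ = (k⁻¹ * s k * s x * (k⁻¹ * s k)⁻¹) * x := by group

theorem K2_c (hnrm : ∀ y : X, y * s y * s (s y) = 1) (ha : ∀ x c : X, Commute x (c * s x * c⁻¹))
    (hb : ∀ x c : X, Commute x (c * s (s x) * c⁻¹)) (x c : X) : Commute x (c * x * c⁻¹) := by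
  have h1 : s x * s (s x) = x⁻¹ := by
    have h0 := hnrm x
    rw [mul_assoc] at h0
    exact eq_inv_of_mul_eq_one_right h0
  have h2 : Commute x ((c * s x * c⁻¹) * (c * s (s x) * c⁻¹)) := (ha x c).mul_right (hb x c)
  have h3 : (c * s x * c⁻¹) * (c * s (s x) * c⁻¹) = (c * x * c⁻¹)⁻¹ := by
    calc (c * s x * c⁻¹) * (c * s (s x) * c⁻¹) = c * (s x * s (s x)) * c⁻¹ := by group
      _ = c * x⁻¹ * c⁻¹ := by rw [h1]
      _ = (c * x * c⁻¹)⁻¹ := by group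
  rw [h3] at h2
  exact Commute.inv_right_iff.mp h2

end Cfsg.Agent.Lib.Helper29.E4
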