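import Cfsg.Agent.Lib.Helper29.E4.Defs

set_option autoImplicit false

namespace Cfsg.Agent.Lib.Helper29.E4

variable {G : Type*} [Group G]

variable {X : Type*} [Group X] (s : X ≃* X)

theorem K3_N (h3 : ∀ x, s (s (s x)) = x) (ha : ∀ x c : X, Commute x (c * s x * c⁻¹))
    (hb : ∀ x c : X, Commute x (c * s (s x) * c⁻¹)) (hc : ∀ x c : X, Commute x (c * x * c⁻¹)) (u : X) :
    ∃ N : Subgroup X, N.Normal ∧ (∀ a ∈ N, ∀ b ∈ N, a * b = b * a) ∧ (∀ a ∈ N, s a ∈ N) ∧ u ∈ N := by
  have hS : ∀ a ∈ ({u, s u, s (s u)} : Set X), ∀ b ∈ ({u, s u, s (s u)} : Set X), ∀ c : X,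
      Commute a (c * b * c⁻¹) := by
    rintro a (rfl | rfl | rfl) b (rfl | rfl | rfl) c
    · exact hc _ c
    · exact ha _ c
    · exact hb _ c
    · have := hb (s b) c
      rwa [h3] at this
    · exact hc _ c
    · exact ha _ c
    · have := ha (s (s b)) c
      rwa [h3] at this
    · have := hb (s (s u)) c
      rwa [h3] at this
    · exact hc _ c
  have hT : ∀ x ∈ Group.conjugatesOfSet ({u, s u, s (s u)} : Set X),
      ∀ y ∈ Group.conjugatesOfSet ({u, s u, s (s u)} : Set X), Commute x y := by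
    intro x hx y hy
    obtain ⟨a, haS, hax⟩ := Group.mem_conjugatesOfSet_iff.1 hx
    obtain ⟨b, hbS, hby⟩ := Group.mem_conjugatesOfSet_iff.1 hy
    obtain ⟨c, rfl⟩ := isConj_iff.1 hax
    obtain ⟨e, rfl⟩ := isConj_iff.1 hby
    have h1 : e * b * e⁻¹ = c * ((c⁻¹ * e) * b * (c⁻¹ * e)⁻¹) * c⁻¹ := by group
    rw [h1, Commute.conj_iff]
    exact hS a haS b hbS _
  have h1 : ∀ x ∈ Group.conjugatesOfSet ({u, s u, s (s u)} : Set X),
      ∀ y ∈ Subgroup.normalClosure ({u, s u, s (s u)} : Set X), Commute x y := by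
    intro x hx y hy
    induction hy using Subgroup.closure_induction with
    | mem y hy => exact hT x hx y hy
    | one => exact Commute.one_right x
    | mul a b _ _ iha ihb => exact iha.mul_right ihb
    | inv a _ iha => exact iha.inv_right
  have h2 : ∀ x ∈ Subgroup.normalClosure ({u, s u, s (s u)} : Set X),
      ∀ y ∈ Subgroup.normalClosure ({u, s u, s (s u)} : Set X), Commute x y := by
    intro x hx y hy
    induction hx using Subgroup.closure_induction with
    | mem x hx => exact h1 x hx y hy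
    | one => exact Commute.one_left y
    | mul a b _ _ iha ihb => exact iha.mul_left ihb
    | inv a _ iha => exact iha.inv_left
  refine ⟨Subgroup.normalClosure ({u, s u, s (s u)} : Set X), Subgroup.normalClosure_normal,
    fun a ha' b hb' => (h2 a ha' b hb').eq, ?_, Subgroup.subset_normalClosure (by simp)⟩
  have h4 : Subgroup.normalClosure ({u, s u, s (s u)} : Set X) ≤
      (Subgroup.normalClosure ({u, s u, s (s u)} : Set X)).comap s.toMonoidHom := by
    unfold Subgroup.normalClosure
    rw [Subgroup.closure_le]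
    intro x hx
    obtain ⟨a, haS, hax⟩ := Group.mem_conjugatesOfSet_iff.1 hx
    obtain ⟨c, rfl⟩ := isConj_iff.1 hax
    apply Subgroup.subset_closure
    rw [Group.mem_conjugatesOfSet_iff]
    refine ⟨s a, ?_, isConj_iff.2 ⟨s c, by simp⟩⟩
    rcases haS with rfl | rfl | rfl
    · simp
    · simp
    · rw [h3]; simp
  intro a ha'
  exact h4 ha'

end Cfsg.Agent.Lib.Helper29.E4
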