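import Cfsg.Agent.Lib.Helper29.E4.Defs

set_option autoImplicit false

namespace Cfsg.Agent.Lib.Helper29.E4

variable {G : Type*} [Group G]

/-- Expand `ht` with `σ^2 = -1 - σ`: `a = (1 + a) * a₁ * σ^2`; multiply on the left by `1 - a` (`a^2 = 0`): `a = a₁ * σ^2`;
`a₁ = σ * a * σ^2` from `hc` and `σ^3 = 1`; so `a = σ * a * σ^4 = σ * a * σ`. -/
theorem K3_ring1 {E : Type*} [Ring E] (σ a a₁ : E) (h3 : σ ^ 3 = 1) (hn : 1 + σ + σ ^ 2 = 0)
    (ha : a ^ 2 = 0) (hc : σ * a = a₁ * σ)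
    (ht : 1 + (1 + a) * σ + (1 + a) * (1 + a₁) * σ ^ 2 = 0) : a = σ * a * σ := by
  have h1 : a = (1 + a) * a₁ * σ ^ 2 := by
    have e : (1 + a) * a₁ * σ ^ 2 - a =
        (1 + (1 + a) * σ + (1 + a) * (1 + a₁) * σ ^ 2) - (1 + a) * (1 + σ + σ ^ 2) := by
      noncomm_ring
    rw [ht, hn, mul_zero, sub_zero] at e
    exact (sub_eq_zero.mp e).symm
  have h2 : a = a₁ * σ ^ 2 := by
    calc a = a - a ^ 2 := by rw [ha, sub_zero]
      _ = (1 - a) * a := by noncomm_ring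
      _ = (1 - a) * ((1 + a) * a₁ * σ ^ 2) := by rw [← h1]
      _ = (1 - a ^ 2) * (a₁ * σ ^ 2) := by noncomm_ring
      _ = a₁ * σ ^ 2 := by rw [ha, sub_zero, one_mul]
  have h4 : a₁ = σ * a * σ ^ 2 := by
    calc a₁ = a₁ * σ ^ 3 := by rw [h3, mul_one]
      _ = (a₁ * σ) * σ ^ 2 := by noncomm_ring
      _ = σ * a * σ ^ 2 := by rw [← hc]
  calc a = a₁ * σ ^ 2 := h2
    _ = σ * a * σ ^ 2 * σ ^ 2 := by rw [← h4]
    _ = σ * a * (σ ^ 3 * σ) := by noncomm_ring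
    _ = σ * a * σ := by rw [h3, one_mul]

/-- From the three relations `a * b = σ * (a * b) * σ`.  Also `a * b = (σ a σ)(σ b σ) = σ a σ^2 b σ` and `σ^2 b = σ^2 (σ b σ) = b σ`, so
`σ (a b) σ = σ (a b σ) σ`; cancel the units `σ`: `a b = a b σ`. -/
theorem K3_ring2 {E : Type*} [Ring E] (σ a b : E) (h3 : σ ^ 3 = 1) (ha : a = σ * a * σ)
    (hb : b = σ * b * σ) (hab : a + b + a * b = σ * (a + b + a * b) * σ) : a * b * (1 - σ) = 0 := by
  have h1 : a * b = σ * (a * b) * σ := by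
    have e : σ * (a + b + a * b) * σ = σ * a * σ + σ * b * σ + σ * (a * b) * σ := by noncomm_ring
    rw [e, ← ha, ← hb] at hab
    exact add_left_cancel hab
  have h2 : σ ^ 2 * b = b * σ := by
    calc σ ^ 2 * b = σ ^ 2 * (σ * b * σ) := by rw [← hb]
      _ = σ ^ 3 * b * σ := by noncomm_ring
      _ = b * σ := by rw [h3, one_mul]
  have h4 : a * b = σ * (a * b * σ) * σ := by
    calc a * b = (σ * a * σ) * (σ * b * σ) := by rw [← ha, ← hb]
      _ = σ * a * (σ ^ 2 * b) * σ := by noncomm_ring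
      _ = σ * (a * b * σ) * σ := by rw [h2]; noncomm_ring
  have hx : ∀ z : E, σ ^ 2 * (σ * z * σ) * σ ^ 2 = z := by
    intro z
    calc σ ^ 2 * (σ * z * σ) * σ ^ 2 = σ ^ 3 * z * σ ^ 3 := by noncomm_ring
      _ = z := by rw [h3, one_mul, mul_one]
  have h5 : a * b = a * b * σ := by
    calc a * b = σ ^ 2 * (σ * (a * b) * σ) * σ ^ 2 := (hx _).symm
      _ = σ ^ 2 * (σ * (a * b * σ) * σ) * σ ^ 2 := by rw [← h1, ← h4]
      _ = a * b * σ := hx _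
  rw [mul_sub, mul_one, ← h5, sub_self]

end Cfsg.Agent.Lib.Helper29.E4
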