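import Cfsg.Agent.Lib.Helper29.E4.Defs
import Cfsg.Agent.Lib.Helper29.E4.K3r

set_option autoImplicit false

namespace Cfsg.Agent.Lib.Helper29.E4

variable {G : Type*} [Group G]

/-- the module argument, abstract form -/
theorem K3m_abs {M : Type*} [AddCommGroup M] [Finite M] {X : Type*} [Group X] (s : X → X)
    (σ : M →+ M) (γ : X → M →+ M)
    (h3 : ∀ m, σ (σ (σ m)) = m)
    (hn : ∀ m, m + σ m + σ (σ m) = 0)
    (hmul : ∀ k k' m, γ (k * k') m = γ k (γ k' m))
    (hsg : ∀ k m, σ (γ k m) = γ (s k) (σ m))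
    (hsq : ∀ k m, γ k (γ k m - m) = γ k m - m)
    (htw : ∀ k m, m + γ k (σ m) + γ k (σ (γ k (σ m))) = 0)
    (hinj : ∀ m, σ m = m → m = 0) (c g : X) (m : M) :
    γ c (γ g m - m) = γ g m - m := by
  let σ' : AddMonoid.End M := σ
  let γ' : X → AddMonoid.End M := γ
  let a : X → AddMonoid.End M := fun k => γ' k - 1
  have ev : ∀ k m, a k m = γ k m - m := fun k m => rfl
  have H3 : σ' ^ 3 = 1 := by
    ext m
    show σ (σ (σ m)) = m
    exact h3 m
  have Hn : 1 + σ' + σ' ^ 2 = 0 := by
    ext m
    show m + σ m + σ (σ m) = 0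
    exact hn m
  have Hsq : ∀ k, a k ^ 2 = 0 := by
    intro k
    ext m
    show γ k (γ k m - m) - (γ k m - m) = 0
    rw [hsq, sub_self]
  have Hc : ∀ k, σ' * a k = a (s k) * σ' := by
    intro k
    ext m
    show σ (γ k m - m) = γ (s k) (σ m) - σ m
    rw [map_sub, hsg]
  have Ht : ∀ k, 1 + (1 + a k) * σ' + (1 + a k) * (1 + a (s k)) * σ' ^ 2 = 0 := by
    intro k
    ext m
    show m + (σ m + (γ k (σ m) - σ m))
      + ((σ (σ m) + (γ (s k) (σ (σ m)) - σ (σ m)))
        + (γ k (σ (σ m) + (γ (s k) (σ (σ m)) - σ (σ m)))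
          - (σ (σ m) + (γ (s k) (σ (σ m)) - σ (σ m))))) = 0
    have := htw k m
    rw [hsg] at this
    rw [← this]
    simp only [add_sub_cancel]
  have Ha : ∀ k, a k = σ' * a k * σ' := fun k =>
    K3_ring1 σ' (a k) (a (s k)) H3 Hn (Hsq k) (Hc k) (Ht k)
  have Hcg : a c + a g + a c * a g = a (c * g) := by
    ext m
    show (γ c m - m) + (γ g m - m) + (γ c (γ g m - m) - (γ g m - m)) = γ (c * g) m - m
    rw [hmul, map_sub]
    abel
  have Hfin : a c * a g * (1 - σ') = 0 :=
    K3_ring2 σ' (a c) (a g) H3 (Ha c) (Ha g) (by rw [Hcg]; exact Ha (c * g))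
  have hinj' : Function.Injective (fun m : M => m - σ m) := by
    intro x y hxy
    have h1 : σ (x - y) = x - y := by
      rw [map_sub]
      have : x - σ x = y - σ y := hxy
      have e : σ x - σ y = (x - y) - ((x - σ x) - (y - σ y)) := by abel
      rw [e, this, sub_self, sub_zero]
    exact sub_eq_zero.mp (hinj _ h1)
  obtain ⟨m', hm'⟩ := (Finite.injective_iff_surjective.mp hinj') m
  have h5 : (a c * a g * (1 - σ')) m' = 0 := by rw [Hfin]; rfl
  have h6 : (a c * a g * (1 - σ')) m' = γ c (γ g m - m) - (γ g m - m) := by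
    show γ c (γ g (m' - σ m') - (m' - σ m')) - (γ g (m' - σ m') - (m' - σ m')) = _
    have : m' - σ m' = m := hm'
    rw [this]
  rw [h6] at h5
  exact sub_eq_zero.mp h5

variable {X : Type*} [Group X] [Finite X] (s : X ≃* X)

/-- THE MODULE ARGUMENT. -/
theorem K3_mod (h : Fpf3 s) (hnrm : ∀ τ : X ≃* X, Fpf3 τ → ∀ y, y * τ y * τ (τ y) = 1)
    (htw : ∀ k : X, Fpf3 (s.trans (MulAut.conj k))) (hc : ∀ x c : X, Commute x (c * x * c⁻¹))
    (N : Subgroup X) [N.Normal] (hab : ∀ a ∈ N, ∀ b ∈ N, a * b = b * a) (hs : ∀ a ∈ N, s a ∈ N)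
    (u : X) (hu : u ∈ N) (g c : X) : Commute c (g * u * g⁻¹ * u⁻¹) := by
  classical
  letI cg : CommGroup N :=
    { (inferInstance : Group N) with mul_comm := fun a b => Subtype.ext (hab a a.2 b b.2) }
  let sN : N →* N :=
    { toFun := fun a => ⟨s (a : X), hs a a.2⟩
      map_one' := Subtype.ext (map_one s)
      map_mul' := fun a b => Subtype.ext (map_mul s (a : X) (b : X)) }
  let cN : X → (N →* N) := fun k =>
    { toFun := fun a => ⟨k * (a : X) * k⁻¹, Subgroup.Normal.conj_mem (inferInstance : N.Normal) (a : X) a.2 k⟩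
      map_one' := Subtype.ext (by simp)
      map_mul' := fun a b => Subtype.ext (by simp) }
  have key := K3m_abs (M := Additive N) (X := X) s (MonoidHom.toAdditive sN)
    (fun k => MonoidHom.toAdditive (cN k))
    (by
      intro m
      apply Additive.toMul.injective
      apply Subtype.ext
      show s (s (s ((Additive.toMul m : N) : X))) = _
      exact h.1 _)
    (by
      intro m
      apply Additive.toMul.injective
      apply Subtype.ext
      show ((Additive.toMul m : N) : X) * s ((Additive.toMul m : N) : X)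
        * s (s ((Additive.toMul m : N) : X)) = 1
      exact hnrm s h _)
    (by
      intro k k' m
      apply Additive.toMul.injective
      apply Subtype.ext
      show (k * k') * ((Additive.toMul m : N) : X) * (k * k')⁻¹
        = k * (k' * ((Additive.toMul m : N) : X) * k'⁻¹) * k⁻¹
      group)
    (by
      intro k m
      apply Additive.toMul.injective
      apply Subtype.ext
      show s (k * ((Additive.toMul m : N) : X) * k⁻¹)
        = s k * s ((Additive.toMul m : N) : X) * (s k)⁻¹
      simp)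
    (by
      intro k m
      apply Additive.toMul.injective
      apply Subtype.ext
      show k * ((k * ((Additive.toMul m : N) : X) * k⁻¹) / (((Additive.toMul m : N) : X))) * k⁻¹
        = (k * ((Additive.toMul m : N) : X) * k⁻¹) / (((Additive.toMul m : N) : X))
      rw [div_eq_mul_inv]
      set n : X := ((Additive.toMul m : N) : X)
      have h1 : Commute k (n * k * n⁻¹) := hc k n
      have h2 : Commute k (n * k * n⁻¹)⁻¹ := h1.inv_right
      have h3 : Commute k (k * (n * k * n⁻¹)⁻¹) := (Commute.refl k).mul_right h2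
      have e : k * n * k⁻¹ * n⁻¹ = k * (n * k * n⁻¹)⁻¹ := by group
      rw [e]
      rw [h3.eq, mul_inv_cancel_right])
    (by
      intro k m
      apply Additive.toMul.injective
      apply Subtype.ext
      show ((Additive.toMul m : N) : X) * (k * s ((Additive.toMul m : N) : X) * k⁻¹)
        * (k * s (k * s ((Additive.toMul m : N) : X) * k⁻¹) * k⁻¹) = 1
      have := hnrm _ (htw k) ((Additive.toMul m : N) : X)
      simpa [MulEquiv.trans_apply, MulAut.conj_apply] using this)
    (by
      intro m hm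
      apply Additive.toMul.injective
      apply Subtype.ext
      show ((Additive.toMul m : N) : X) = 1
      apply h.2
      exact congrArg (fun z : Additive N => ((Additive.toMul z : N) : X)) hm)
    c g (Additive.ofMul (⟨u, hu⟩ : N))
  have key'' : c * (g * u * g⁻¹ / u) * c⁻¹ = g * u * g⁻¹ / u :=
    congrArg (fun z : Additive N => ((Additive.toMul z : N) : X)) key
  have key' : c * (g * u * g⁻¹ * u⁻¹) * c⁻¹ = g * u * g⁻¹ * u⁻¹ := by
    rw [div_eq_mul_inv] at key''
    exact key''
  show c * (g * u * g⁻¹ * u⁻¹) = (g * u * g⁻¹ * u⁻¹) * c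
  calc c * (g * u * g⁻¹ * u⁻¹) = c * (g * u * g⁻¹ * u⁻¹) * c⁻¹ * c := by group
    _ = _ := by rw [key']

end Cfsg.Agent.Lib.Helper29.E4
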