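import Cfsg.Agent.Lib.Helper29.E4.Defs

set_option autoImplicit false

namespace Cfsg.Agent.Lib.Helper29.E4

variable {G : Type*} [Group G]

theorem K4 {X : Type*} [Group X] (h : ∀ u g c : X, Commute c (g * u * g⁻¹ * u⁻¹)) :
    Group.nilpotencyClass X ≤ 2 := by
  have h2 : Subgroup.upperCentralSeries X 2 = ⊤ := by
    rw [eq_top_iff]
    intro x _
    rw [Subgroup.mem_upperCentralSeries_succ_iff]
    intro y
    rw [Subgroup.upperCentralSeries_one, Subgroup.mem_center_iff]
    intro c
    exact (h y x c).eq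
  have hnil : Group.IsNilpotent X := ⟨⟨2, h2⟩⟩
  exact Subgroup.upperCentralSeries_eq_top_iff_nilpotencyClass_le.1 h2

end Cfsg.Agent.Lib.Helper29.E4
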