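import Cfsg.Agent.Lib.Helper29.E4.Defs

set_option autoImplicit false

namespace Cfsg.Agent.Lib.Helper29.E4

open scoped commutatorElement

variable {G : Type*} [Group G]

/-- the elements of exponent `k` in an abelian subgroup -/
def S2_tor (A : Subgroup G) (hA : ∀ a ∈ A, ∀ b ∈ A, a * b = b * a) (k : ℕ) : Subgroup G where
  carrier := {a | a ∈ A ∧ a ^ k = 1}
  mul_mem' := by
    rintro a b ⟨ha, hak⟩ ⟨hb, hbk⟩
    refine ⟨A.mul_mem ha hb, ?_⟩
    rw [(show Commute a b from hA a ha b hb).mul_pow, hak, hbk, one_mul]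
  one_mem' := ⟨A.one_mem, one_pow k⟩
  inv_mem' := by
    rintro a ⟨ha, hak⟩
    exact ⟨A.inv_mem ha, by rw [inv_pow, hak, inv_one]⟩

theorem S2_tor_normal (A : Subgroup G) (hn : A.Normal) (hA : ∀ a ∈ A, ∀ b ∈ A, a * b = b * a)
    (k : ℕ) : (S2_tor A hA k).Normal := by
  constructor
  rintro a ⟨ha, hak⟩ g
  exact ⟨hn.conj_mem a ha g, by rw [conj_pow, hak, mul_one, mul_inv_cancel]⟩

theorem exists_normal [Finite G] [Nontrivial G] (hG : H34 G) (hs : Group.IsSolvable G) :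
    ∃ M : Subgroup G, M.Normal ∧ M ≠ ⊥ ∧ ((∀ x ∈ M, x ^ 3 = 1) ∨ (∀ x ∈ M, x ^ 4 = 1)) := by
  classical
  have hex := hs.solvable
  set n := Nat.find hex with hn
  have hn1 : derivedSeries G n = ⊥ := Nat.find_spec hex
  have hn0 : n ≠ 0 := by
    intro h0
    rw [h0, derivedSeries_zero] at hn1
    exact top_ne_bot hn1
  obtain ⟨m, hm⟩ : ∃ m, n = m + 1 := ⟨n - 1, by omega⟩
  set A := derivedSeries G m with hAdef
  have hA0 : A ≠ ⊥ := Nat.find_min hex (by omega : m < n)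
  have hAA : ⁅A, A⁆ = ⊥ := by
    rw [hm, derivedSeries_succ] at hn1
    exact hn1
  have hAn : A.Normal := derivedSeries_normal G m
  have hA : ∀ a ∈ A, ∀ b ∈ A, a * b = b * a := by
    intro a ha b hb
    have h1 : ⁅a, b⁆ ∈ ⁅A, A⁆ := Subgroup.commutator_mem_commutator ha hb
    rw [hAA, Subgroup.mem_bot] at h1
    exact commutatorElement_eq_one_iff_mul_comm.mp h1
  obtain ⟨a, haA, ha1⟩ : ∃ a : G, a ∈ A ∧ a ≠ 1 := by
    obtain ⟨a, ha⟩ := Subgroup.ne_bot_iff_exists_ne_one.mp hA0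
    exact ⟨a.1, a.2, fun hh => ha (Subtype.ext hh)⟩
  rcases hG a with h | h
  · refine ⟨S2_tor A hA 3, S2_tor_normal A hAn hA 3, ?_, Or.inl (fun x hx => hx.2)⟩
    intro hb
    have : a ∈ S2_tor A hA 3 := ⟨haA, h⟩
    rw [hb, Subgroup.mem_bot] at this
    exact ha1 this
  · refine ⟨S2_tor A hA 4, S2_tor_normal A hAn hA 4, ?_, Or.inr (fun x hx => hx.2)⟩
    intro hb
    have : a ∈ S2_tor A hA 4 := ⟨haA, h⟩
    rw [hb, Subgroup.mem_bot] at this
    exact ha1 this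

end Cfsg.Agent.Lib.Helper29.E4
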