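import Cfsg.Agent.Lib.Helper29.E4.Defs

set_option autoImplicit false

namespace Cfsg.Agent.Lib.Helper29.E4

variable {G : Type*} [Group G]

variable {Q : Subgroup G} {d t : G}

theorem X1_dd (h : Ctx Q d t) : d * d = d⁻¹ := by
  have := h.d3
  rw [pow_succ, pow_two] at this
  exact eq_inv_of_mul_eq_one_left this

theorem X1_t1 (h : Ctx Q d t) : d * t * d⁻¹ = d⁻¹ * t := by
  have h1 : t * d⁻¹ = d * t := by
    have := congrArg (fun z => z⁻¹) h.td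
    simp only [mul_inv_rev, inv_inv] at this
    -- this : t * (d⁻¹ * t⁻¹) = d
    calc t * d⁻¹ = t * (d⁻¹ * t⁻¹) * t := by group
      _ = d * t := by rw [this]
  calc d * t * d⁻¹ = d * (t * d⁻¹) := by group
    _ = d * (d * t) := by rw [h1]
    _ = (d * d) * t := by group
    _ = d⁻¹ * t := by rw [X1_dd h]

theorem X1_t2 (h : Ctx Q d t) : d⁻¹ * t * d = d * t := by
  have h1 : t * d = d⁻¹ * t := by
    calc t * d = (t * d * t⁻¹) * t := by group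
      _ = d⁻¹ * t := by rw [h.td]
  calc d⁻¹ * t * d = d⁻¹ * (t * d) := by group
    _ = d⁻¹ * (d⁻¹ * t) := by rw [h1]
    _ = (d * d)⁻¹ * t := by group
    _ = d * t := by rw [X1_dd h, inv_inv]

theorem X1_conj_sq (h : Ctx Q d t) (g : G) : (g * t * g⁻¹) ^ 2 = 1 := by
  have : (g * t * g⁻¹) ^ 2 = g * t ^ 2 * g⁻¹ := by
    rw [pow_two, pow_two]; group
  rw [this, h.t2]; group

theorem X1_conj_not_mem (h : Ctx Q d t) (g : G) : g * t * g⁻¹ ∉ Q := by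
  intro hm
  apply h.tQ
  have := h.nQ.conj_mem _ hm g⁻¹
  have e : g⁻¹ * (g * t * g⁻¹) * g⁻¹⁻¹ = t := by group
  rwa [e] at this

/-- the three relations `(v * w)^2 = 1`, `(v * d⁻¹ w d)^2 = 1`, `(v * d w d⁻¹)^2 = 1`, `w = t v t⁻¹` -/
theorem X1_three (h : Ctx Q d t) (v : G) (hv : v ∈ Q) :
    (v * (t * v * t⁻¹)) ^ 2 = 1 ∧ (v * (d⁻¹ * (t * v * t⁻¹) * d)) ^ 2 = 1 ∧
      (v * (d * (t * v * t⁻¹) * d⁻¹)) ^ 2 = 1 := by
  refine ⟨h.sq t h.t2 h.tQ v hv, ?_, ?_⟩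
  · have := h.sq (d * t * d⁻¹) (X1_conj_sq h d) (X1_conj_not_mem h d) v hv
    rw [X1_t1 h] at this
    have e : d⁻¹ * t * v * (d⁻¹ * t)⁻¹ = d⁻¹ * (t * v * t⁻¹) * d := by group
    rwa [e] at this
  · have h1 := X1_conj_sq h d⁻¹
    have h2 := X1_conj_not_mem h d⁻¹
    rw [inv_inv] at h1 h2
    have := h.sq (d⁻¹ * t * d) h1 h2 v hv
    rw [X1_t2 h] at this
    have e : d * t * v * (d * t)⁻¹ = d * (t * v * t⁻¹) * d⁻¹ := by group
    rwa [e] at this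

/-- abelian section lemma: squares of `A` lie in `D`. -/
theorem Ctx.sq_mem (h : Ctx Q d t) (A D : Subgroup G) [A.Normal] [D.Normal] (hAQ : A ≤ Q) (hDA : D ≤ A)
    (hAD : ∀ a ∈ A, ∀ b ∈ A, a * b * a⁻¹ * b⁻¹ ∈ D) : ∀ v ∈ A, v ^ 2 ∈ D := by
  intro v hv
  have hA : A.Normal := inferInstance
  have hcomm : ∀ a ∈ A, ∀ b ∈ A, Commute (QuotientGroup.mk' D a) (QuotientGroup.mk' D b) := by
    intro a ha b hb
    have h1 : QuotientGroup.mk' D (a * b * a⁻¹ * b⁻¹) = 1 :=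
      (QuotientGroup.eq_one_iff _).mpr (hAD a ha b hb)
    rw [map_mul, map_mul, map_mul, map_inv, map_inv] at h1
    show _ * _ = _ * _
    calc QuotientGroup.mk' D a * QuotientGroup.mk' D b
        = (QuotientGroup.mk' D a * QuotientGroup.mk' D b * (QuotientGroup.mk' D a)⁻¹
          * (QuotientGroup.mk' D b)⁻¹) * (QuotientGroup.mk' D b * QuotientGroup.mk' D a) := by group
      _ = _ := by rw [h1, one_mul]
  have hw : t * v * t⁻¹ ∈ A := hA.conj_mem v hv t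
  have hw1 : d * (t * v * t⁻¹) * d⁻¹ ∈ A := hA.conj_mem _ hw d
  have hw2 : d⁻¹ * (t * v * t⁻¹) * d ∈ A := by
    have := hA.conj_mem _ hw d⁻¹
    rwa [inv_inv] at this
  obtain ⟨r0, r2, r1⟩ := X1_three h v (hAQ hv)
  have rn := h.nrm _ (hAQ hw)
  set w := t * v * t⁻¹
  set V := QuotientGroup.mk' D v with hV
  set W0 := QuotientGroup.mk' D w with hW0
  set W1 := QuotientGroup.mk' D (d * w * d⁻¹) with hW1
  set W2 := QuotientGroup.mk' D (d⁻¹ * w * d) with hW2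
  have R0 : V ^ 2 * W0 ^ 2 = 1 := by
    rw [← (hcomm v hv w hw).mul_pow, ← map_mul, ← map_pow, r0, map_one]
  have R1 : V ^ 2 * W1 ^ 2 = 1 := by
    rw [← (hcomm v hv _ hw1).mul_pow, ← map_mul, ← map_pow, r1, map_one]
  have R2 : V ^ 2 * W2 ^ 2 = 1 := by
    rw [← (hcomm v hv _ hw2).mul_pow, ← map_mul, ← map_pow, r2, map_one]
  have RN : W0 ^ 2 * W1 ^ 2 * W2 ^ 2 = 1 := by
    have c1 : Commute W0 W1 := hcomm w hw _ hw1
    have c2 : Commute (W0 * W1) W2 := (hcomm w hw _ hw2).mul_left (hcomm _ hw1 _ hw2)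
    rw [← c1.mul_pow, ← c2.mul_pow, hW0, hW1, hW2, ← map_mul, ← map_mul, rn, map_one, one_pow]
  have R4 : V ^ 2 * V ^ 2 = 1 := by
    rw [← pow_add, hV, ← map_pow, h.q4 v (hAQ hv), map_one]
  have e0 : W0 ^ 2 = (V ^ 2)⁻¹ := eq_inv_of_mul_eq_one_right R0
  have e1 : W1 ^ 2 = (V ^ 2)⁻¹ := eq_inv_of_mul_eq_one_right R1
  have e2 : W2 ^ 2 = (V ^ 2)⁻¹ := eq_inv_of_mul_eq_one_right R2
  have e4 : (V ^ 2)⁻¹ = V ^ 2 := (eq_inv_of_mul_eq_one_right R4).symm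
  rw [e0, e1, e2, e4, R4, one_mul] at RN
  rw [hV, ← map_pow] at RN
  exact (QuotientGroup.eq_one_iff _).mp RN

end Cfsg.Agent.Lib.Helper29.E4
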