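import Cfsg.Agent.Lib.Helper29.E4.Defs

set_option autoImplicit false

namespace Cfsg.Agent.Lib.Helper29.E4

variable {G : Type*} [Group G]

variable {Q : Subgroup G} {d t : G}

/-- `hsq` is `Ctx.sq_mem`.  (1) `A = Q ⊓ centralizer Q` (normal in `G` as `Q` is: `haveI := h.nQ`), `D = ⊥`: every `z ∈ A` has `z^2 = 1`.  All commutators `x y x⁻¹ y⁻¹` of `Q` lie in
`A` (`h.cl2`), so `⁅Q,Q⁆ ≤ A` (`Subgroup.commutator_le`; `⁅x,y⁆ = x y x⁻¹ y⁻¹`): fields `Dc`, `D2`.  (2) `A = Q`, `D = ⁅Q,Q⁆` (normal: `Subgroup.commutator_normal`): field `sqD`. -/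
theorem Ctx.toCtx2 (h : Ctx Q d t)
    (hsq : ∀ (A D : Subgroup G) [A.Normal] [D.Normal], A ≤ Q → D ≤ A →
      (∀ a ∈ A, ∀ b ∈ A, a * b * a⁻¹ * b⁻¹ ∈ D) → ∀ v ∈ A, v ^ 2 ∈ D) : Ctx2 Q d t := by
  have := h.nQ
  have hA2 : ∀ v ∈ Q ⊓ Subgroup.centralizer (Q : Set G), v ^ 2 = 1 := by
    intro v hv
    have := hsq (Q ⊓ Subgroup.centralizer (Q : Set G)) ⊥ inf_le_left bot_le (by
      intro a ha b hb
      rw [Subgroup.mem_bot]
      have hc : b * a = a * b := (Subgroup.mem_centralizer_iff.1 ha.2) b hb.1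
      rw [← hc]
      group) v hv
    exact Subgroup.mem_bot.1 this
  have hle : ⁅Q, Q⁆ ≤ Q ⊓ Subgroup.centralizer (Q : Set G) := by
    rw [Subgroup.commutator_le]
    intro x hx y hy
    rw [commutatorElement_def]
    refine Subgroup.mem_inf.2
      ⟨Q.mul_mem (Q.mul_mem (Q.mul_mem hx hy) (Q.inv_mem hx)) (Q.inv_mem hy), ?_⟩
    rw [Subgroup.mem_centralizer_iff]
    intro z hz
    exact (h.cl2 x hx y hy z hz).symm
  refine { h with Dc := ?_, D2 := ?_, sqD := ?_ }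
  · intro z hz q hq
    exact ((Subgroup.mem_centralizer_iff.1 (hle hz).2) q hq).symm
  · intro z hz
    exact hA2 z (hle hz)
  · intro v hv
    exact hsq Q ⁅Q, Q⁆ le_rfl (hle.trans inf_le_left) (by
      intro a ha b hb
      rw [← commutatorElement_def]
      exact Subgroup.commutator_mem_commutator ha hb) v hv

/-- `A = Q`, `D = ⊥` in `hsq`. -/
theorem Ctx.elemAb (h : Ctx Q d t)
    (hsq : ∀ (A D : Subgroup G) [A.Normal] [D.Normal], A ≤ Q → D ≤ A →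
      (∀ a ∈ A, ∀ b ∈ A, a * b * a⁻¹ * b⁻¹ ∈ D) → ∀ v ∈ A, v ^ 2 ∈ D)
    (hab : ∀ v ∈ Q, ∀ w ∈ Q, v * w = w * v) : Cfsg.IsElementaryAbelian 2 Q := by
  have := h.nQ
  refine ⟨⟨⟨fun a b => Subtype.ext (hab a a.2 b b.2)⟩⟩, ?_⟩
  intro v hv
  have := hsq Q ⊥ le_rfl bot_le (by
    intro a ha b hb
    rw [Subgroup.mem_bot, hab a ha b hb]
    group) v hv
  exact Subgroup.mem_bot.1 this

end Cfsg.Agent.Lib.Helper29.E4
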