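import Cfsg.Agent.Lib.Helper29.E4.Defs

set_option autoImplicit false

namespace Cfsg.Agent.Lib.Helper29.E4

variable {G : Type*} [Group G]

variable {Q : Subgroup G} {d t : G}

/-- `D = ⁅Q,Q⁆` is normal in `G`.  Put `v = d x d⁻¹`.  `t v t⁻¹ = d⁻¹ (t x t⁻¹) d ∈ (d⁻¹ x d) D` by `hfix` (`t d = d⁻¹ t`).  So `v * (t v t⁻¹) ∈ (d x d⁻¹)(d⁻¹ x d) D = x⁻¹ D = x D`
(`h.nrm x`, `h.sqD x`).  So `x = (v * t v t⁻¹) * z` with `z ∈ D` central in `Q` of square 1: `x^2 = (v * t v t⁻¹)^2 * z^2 = 1` by `h.sq t`. -/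
theorem Ctx2.sq_one_of_fix (h : Ctx2 Q d t) (x : G) (hx : x ∈ Q) (hfix : Fix Q t x) : x ^ 2 = 1 := by
  have := h.nQ
  have hv : d * x * d⁻¹ ∈ Q := h.nQ.conj_mem x hx d
  have hsq := h.sq t h.t2 h.tQ (d * x * d⁻¹) hv
  obtain ⟨c, hc⟩ : ∃ c, c = d⁻¹ * (t * x * t⁻¹ * x⁻¹) * d := ⟨_, rfl⟩
  have hcD : c ∈ ⁅Q, Q⁆ := by
    have := (Subgroup.commutator_normal Q Q).conj_mem _ hfix d⁻¹
    rw [inv_inv] at this
    rw [hc]; exact this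
  have e1 : t * (d * x * d⁻¹) * t⁻¹ = c * (d⁻¹ * x * d) := by
    calc t * (d * x * d⁻¹) * t⁻¹ = (t * d * t⁻¹) * (t * x * t⁻¹) * (t * d * t⁻¹)⁻¹ := by group
      _ = d⁻¹ * (t * x * t⁻¹) * d := by rw [h.td, inv_inv]
      _ = c * (d⁻¹ * x * d) := by rw [hc]; group
  have e2 : (d * x * d⁻¹) * (d⁻¹ * x * d) = x⁻¹ := by
    have := h.nrm x hx
    rw [mul_assoc] at this
    exact eq_inv_of_mul_eq_one_right this
  have e3 : d * x * d⁻¹ * (t * (d * x * d⁻¹) * t⁻¹) = c * x⁻¹ := by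
    rw [e1, ← mul_assoc, ← h.Dc c hcD _ hv, mul_assoc, e2]
  rw [e3] at hsq
  have hcomm : Commute c x⁻¹ := h.Dc c hcD _ (Q.inv_mem hx)
  rw [hcomm.mul_pow, h.D2 c hcD, one_mul, inv_pow, inv_eq_one] at hsq
  exact hsq

end Cfsg.Agent.Lib.Helper29.E4
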