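import Cfsg.Agent.Lib.Helper29.E4.Defs

set_option autoImplicit false

namespace Cfsg.Agent.Lib.Helper29.E4

variable {G : Type*} [Group G]

variable {Q : Subgroup G} {d t : G}

theorem X5_fix_mul {Q : Subgroup G} [Q.Normal] {τ x y : G} (hx : Fix Q τ x) (hy : Fix Q τ y) :
    Fix Q τ (x * y) := by
  unfold Fix at *
  have h1 : x * (τ * y * τ⁻¹ * y⁻¹) * x⁻¹ ∈ ⁅Q, Q⁆ :=
    (Subgroup.commutator_normal Q Q).conj_mem _ hy x
  have h2 := (⁅Q, Q⁆).mul_mem hx h1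
  have e : τ * (x * y) * τ⁻¹ * (x * y)⁻¹
      = τ * x * τ⁻¹ * x⁻¹ * (x * (τ * y * τ⁻¹ * y⁻¹) * x⁻¹) := by group
  rw [e]
  exact h2

/-- `Fix Q t` is closed under products (`t (x y) t⁻¹ (x y)⁻¹ = (t x t⁻¹ x⁻¹) * x (t y t⁻¹ y⁻¹) x⁻¹`, `⁅Q,Q⁆` normal).  So `x^2 = y^2 = (x y)^2 = 1`, hence `x y = y x`. -/
theorem Ctx2.comm_of_fix (h : Ctx2 Q d t) (h4 : ∀ x ∈ Q, Fix Q t x → x ^ 2 = 1) (x y : G)
    (hx : x ∈ Q) (hy : y ∈ Q) (hfx : Fix Q t x) (hfy : Fix Q t y) : x * y = y * x := by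
  have := h.nQ
  have h1 := h4 x hx hfx
  have h2 := h4 y hy hfy
  have h3 := h4 (x * y) (Q.mul_mem hx hy) (X5_fix_mul hfx hfy)
  rw [sq] at h1 h2 h3
  calc x * y = y * y * (x * y) * (x * x) := by rw [h1, h2, one_mul, mul_one]
    _ = y * (y * x) * ((x * y) * (x * y))⁻¹ * ((x * y) * (x * y)) * (y * x) * x := by
        rw [h3]; group
    _ = y * x := by
        rw [h3]
        calc y * (y * x) * (1 : G)⁻¹ * 1 * (y * x) * x = (y * y) * x * y * (x * x) := by group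
          _ = x * y := by rw [h1, h2, one_mul, mul_one]
          _ = (y * y) * (x * y) * (x * x) := by rw [h1, h2, one_mul, mul_one]
          _ = y * ((y * x) * (y * x)) * x := by group
          _ = y * x := by
            have h5 : (y * x) * (y * x) = 1 := by
              calc (y * x) * (y * x) = x⁻¹ * ((x * y) * (x * y)) * x := by group
                _ = 1 := by rw [h3]; group
            rw [h5, mul_one]

/-- `(c τ c⁻¹) (c x c⁻¹) (c τ c⁻¹)⁻¹ (c x c⁻¹)⁻¹ = c (τ x τ⁻¹ x⁻¹) c⁻¹` and `⁅Q,Q⁆` is normal. -/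
theorem Fix.conj {Q : Subgroup G} [Q.Normal] {τ x : G} (h : Fix Q τ x) (c : G) :
    Fix Q (c * τ * c⁻¹) (c * x * c⁻¹) := by
  unfold Fix at *
  have h1 := (Subgroup.commutator_normal Q Q).conj_mem _ h c
  have e : c * τ * c⁻¹ * (c * x * c⁻¹) * (c * τ * c⁻¹)⁻¹ * (c * x * c⁻¹)⁻¹
      = c * (τ * x * τ⁻¹ * x⁻¹) * c⁻¹ := by group
  rw [e]
  exact h1

/-- elements of `⁅Q,Q⁆` are fixed; `Fix` is stable under multiplication by them. -/
theorem Fix.mul_D {Q : Subgroup G} [Q.Normal] {τ x z : G} (h : Fix Q τ x) (hz : z ∈ ⁅Q, Q⁆) :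
    Fix Q τ (x * z) := by
  apply X5_fix_mul h
  unfold Fix
  exact (⁅Q, Q⁆).mul_mem ((Subgroup.commutator_normal Q Q).conj_mem _ hz τ) ((⁅Q, Q⁆).inv_mem hz)

end Cfsg.Agent.Lib.Helper29.E4
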