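import Cfsg.Agent.Lib.Helper29.E4.Defs

set_option autoImplicit false

namespace Cfsg.Agent.Lib.Helper29.E4

variable {G : Type*} [Group G]

variable {Q : Subgroup G} {d t : G}

/-- class-2 commutator computation: `x` commutes with `d y d⁻¹`. -/
theorem Ctx2.comm_cross (h : Ctx2 Q d t) (x y : G) (hx : x ∈ Q) (hy : y ∈ Q) (h0 : x * y = y * x)
    (h1 : (d * x * d⁻¹) * (d * y * d⁻¹) = (d * y * d⁻¹) * (d * x * d⁻¹))
    (h2 : (d⁻¹ * x * d) * (d⁻¹ * y * d) = (d⁻¹ * y * d) * (d⁻¹ * x * d)) :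
    x * (d * y * d⁻¹) = (d * y * d⁻¹) * x := by
  have hn := h.nQ
  have hx1 : d * x * d⁻¹ ∈ Q := hn.conj_mem x hx d
  have hy1 : d * y * d⁻¹ ∈ Q := hn.conj_mem y hy d
  have N1 := h.nrm x hx
  have N2 := h.nrm y hy
  set x₁ := d * x * d⁻¹ with hx₁
  set y₁ := d * y * d⁻¹ with hy₁
  set x₂ := d⁻¹ * x * d with hx₂
  set y₂ := d⁻¹ * y * d with hy₂
  set e := x * y₁ * x⁻¹ * y₁⁻¹ with he
  set f := x₁ * y * x₁⁻¹ * y⁻¹ with hf
  have hec : ∀ z ∈ Q, e * z = z * e := fun z hz => h.cl2 x hx y₁ hy1 z hz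
  have hfc : ∀ z ∈ Q, f * z = z * f := fun z hz => h.cl2 x₁ hx1 y hy z hz
  have heQ : e ∈ Q := Q.mul_mem (Q.mul_mem (Q.mul_mem hx hy1) (Q.inv_mem hx)) (Q.inv_mem hy1)
  have E1 : x * y₁ = e * y₁ * x := by rw [he]; group
  have F1 : x₁ * y = f * y * x₁ := by rw [hf]; group
  have X2 : x₂ = (x * x₁)⁻¹ := eq_inv_of_mul_eq_one_right N1
  have Y2 : y₂ = (y * y₁)⁻¹ := eq_inv_of_mul_eq_one_right N2
  have hcomm : (x * x₁) * (y * y₁) = (y * y₁) * (x * x₁) := by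
    have hc : Commute x₂ y₂ := h2
    rw [X2, Y2] at hc
    exact (Commute.inv_inv_iff.mp hc).eq
  have hchain : (x * x₁) * (y * y₁) = (f * e) * ((y * y₁) * (x * x₁)) := by
    calc (x * x₁) * (y * y₁) = x * (x₁ * y) * y₁ := by group
      _ = x * (f * y * x₁) * y₁ := by rw [F1]
      _ = (x * f) * y * x₁ * y₁ := by group
      _ = (f * x) * y * x₁ * y₁ := by rw [hfc x hx]
      _ = f * (x * y) * (x₁ * y₁) := by group
      _ = f * (y * x) * (y₁ * x₁) := by rw [h0, h1]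
      _ = f * y * (x * y₁) * x₁ := by group
      _ = f * y * (e * y₁ * x) * x₁ := by rw [E1]
      _ = f * (y * e) * y₁ * x * x₁ := by group
      _ = f * (e * y) * y₁ * x * x₁ := by rw [hec y hy]
      _ = (f * e) * ((y * y₁) * (x * x₁)) := by group
  have hfe : f * e = 1 := by
    rw [hcomm] at hchain
    exact (mul_eq_right.mp hchain.symm)
  have hdd : d * d = d⁻¹ := by
    have := h.d3
    rw [pow_succ, pow_two] at this
    exact eq_inv_of_mul_eq_one_left this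
  have hy12 : d * y₁ * d⁻¹ = y₂ := by
    rw [hy₁, hy₂]
    calc d * (d * y * d⁻¹) * d⁻¹ = (d * d) * y * (d * d)⁻¹ := by group
      _ = d⁻¹ * y * d := by rw [hdd, inv_inv]
  have hwQ : y * y₁ ∈ Q := Q.mul_mem hy hy1
  have W1 : x₁ * (y * y₁) = f * (y * y₁) * x₁ := by
    calc x₁ * (y * y₁) = (x₁ * y) * y₁ := by group
      _ = (f * y * x₁) * y₁ := by rw [F1]
      _ = f * y * (x₁ * y₁) := by group
      _ = f * y * (y₁ * x₁) := by rw [h1]
      _ = f * (y * y₁) * x₁ := by group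
  have hde : d * e * d⁻¹ = e := by
    have e1 : d * e * d⁻¹ = x₁ * (d * y₁ * d⁻¹) * x₁⁻¹ * (d * y₁ * d⁻¹)⁻¹ := by
      rw [he, hx₁]; group
    rw [e1, hy12, Y2, inv_inv]
    have e2 : (x₁ * (y * y₁)⁻¹ * x₁⁻¹ * (y * y₁))⁻¹ = f := by
      calc (x₁ * (y * y₁)⁻¹ * x₁⁻¹ * (y * y₁))⁻¹
          = (y * y₁)⁻¹ * (x₁ * (y * y₁)) * x₁⁻¹ := by group
        _ = (y * y₁)⁻¹ * (f * (y * y₁) * x₁) * x₁⁻¹ := by rw [W1]
        _ = (y * y₁)⁻¹ * (f * (y * y₁)) := by group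
        _ = (y * y₁)⁻¹ * ((y * y₁) * f) := by rw [hfc _ hwQ]
        _ = f := by group
    have e3 : e = f⁻¹ := eq_inv_of_mul_eq_one_right hfe
    rw [e3, ← e2, inv_inv]
  have he1 : e = 1 := h.fpf e heQ hde
  rw [E1, he1, one_mul]

end Cfsg.Agent.Lib.Helper29.E4
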