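import Cfsg.Agent.Lib.Helper29.E4.Defs
import Cfsg.Agent.Lib.Helper29.E4.X1

set_option autoImplicit false

namespace Cfsg.Agent.Lib.Helper29.E4

variable {G : Type*} [Group G]

variable {Q : Subgroup G} {d t : G}

theorem X7_fix (hn : Q.Normal) (τ v : G) (hτ : τ ^ 2 = 1) (hv : v ∈ Q) :
    Fix Q τ (v * (τ * v * τ⁻¹)) := by
  have hu : τ * v * τ⁻¹ ∈ Q := hn.conj_mem v hv τ
  have hτ' : τ * τ = 1 := by rw [← pow_two]; exact hτ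
  have hτi : τ⁻¹ = τ := inv_eq_of_mul_eq_one_left hτ'
  have e : τ * (v * (τ * v * τ⁻¹)) * τ⁻¹ * (v * (τ * v * τ⁻¹))⁻¹
      = (τ * v * τ⁻¹) * v * (τ * v * τ⁻¹)⁻¹ * v⁻¹ := by
    have e1 : τ * (v * (τ * v * τ⁻¹)) * τ⁻¹ = (τ * v * τ⁻¹) * ((τ * τ) * v * (τ * τ)⁻¹) := by group
    rw [e1, hτ']
    group
  unfold Fix
  rw [e, ← commutatorElement_def]
  exact Subgroup.commutator_mem_commutator hu hv

/-- `Q = Q₀ Q₁ Q₂`. -/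
theorem Ctx2.decomp (h : Ctx2 Q d t) (v : G) (hv : v ∈ Q) :
    ∃ x₀ ∈ Q, ∃ x₁ ∈ Q, ∃ x₂ ∈ Q, Fix Q t x₀ ∧ Fix Q (d * t * d⁻¹) x₁ ∧ Fix Q (d⁻¹ * t * d) x₂ ∧
      v = x₀ * x₁ * x₂ := by
  have hn : Q.Normal := h.nQ
  haveI := hn
  have hc := h.toCtx
  have ht1 : (d * t * d⁻¹) ^ 2 = 1 := X1_conj_sq hc d
  have ht2 : (d⁻¹ * t * d) ^ 2 = 1 := by
    have := X1_conj_sq hc d⁻¹
    rwa [inv_inv] at this
  have hw : t * v * t⁻¹ ∈ Q := hn.conj_mem v hv t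
  have hw1 : d * (t * v * t⁻¹) * d⁻¹ ∈ Q := hn.conj_mem _ hw d
  have hw2 : d⁻¹ * (t * v * t⁻¹) * d ∈ Q := by
    have := hn.conj_mem _ hw d⁻¹
    rwa [inv_inv] at this
  have E1 : (d * t * d⁻¹) * v * (d * t * d⁻¹)⁻¹ = d⁻¹ * (t * v * t⁻¹) * d := by
    rw [X1_t1 hc]; group
  have E2 : (d⁻¹ * t * d) * v * (d⁻¹ * t * d)⁻¹ = d * (t * v * t⁻¹) * d⁻¹ := by
    rw [X1_t2 hc]; group
  have F0 := X7_fix hn t v h.t2 hv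
  have F1 := X7_fix hn (d * t * d⁻¹) v ht1 hv
  have F2 := X7_fix hn (d⁻¹ * t * d) v ht2 hv
  rw [E1] at F1
  rw [E2] at F2
  have rn := h.nrm _ hw
  set w := t * v * t⁻¹
  set a₀ := v * w with ha₀
  set a₁ := v * (d⁻¹ * w * d) with ha₁
  set a₂ := v * (d * w * d⁻¹) with ha₂
  have hcomm : ∀ a ∈ Q, ∀ b ∈ Q,
      QuotientGroup.mk' ⁅Q, Q⁆ a * QuotientGroup.mk' ⁅Q, Q⁆ b
        = QuotientGroup.mk' ⁅Q, Q⁆ b * QuotientGroup.mk' ⁅Q, Q⁆ a := by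
    intro a ha b hb
    have h1 : QuotientGroup.mk' ⁅Q, Q⁆ (a * b * a⁻¹ * b⁻¹) = 1 := by
      rw [QuotientGroup.mk'_apply, QuotientGroup.eq_one_iff, ← commutatorElement_def]
      exact Subgroup.commutator_mem_commutator ha hb
    rw [map_mul, map_mul, map_mul, map_inv, map_inv] at h1
    calc QuotientGroup.mk' ⁅Q, Q⁆ a * QuotientGroup.mk' ⁅Q, Q⁆ b
        = (QuotientGroup.mk' ⁅Q, Q⁆ a * QuotientGroup.mk' ⁅Q, Q⁆ b * (QuotientGroup.mk' ⁅Q, Q⁆ a)⁻¹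
          * (QuotientGroup.mk' ⁅Q, Q⁆ b)⁻¹)
          * (QuotientGroup.mk' ⁅Q, Q⁆ b * QuotientGroup.mk' ⁅Q, Q⁆ a) := by group
      _ = _ := by rw [h1, one_mul]
  have c1 := hcomm w hw v hv
  have c2 := hcomm _ hw2 v hv
  have c3 := hcomm _ hw2 _ hw1
  have hVV : QuotientGroup.mk' ⁅Q, Q⁆ v * QuotientGroup.mk' ⁅Q, Q⁆ v = 1 := by
    rw [← map_mul, ← pow_two, QuotientGroup.mk'_apply, QuotientGroup.eq_one_iff]
    exact h.sqD v hv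
  have hWWW : QuotientGroup.mk' ⁅Q, Q⁆ w * QuotientGroup.mk' ⁅Q, Q⁆ (d * w * d⁻¹)
      * QuotientGroup.mk' ⁅Q, Q⁆ (d⁻¹ * w * d) = 1 := by
    rw [← map_mul, ← map_mul, rn, map_one]
  have hprod : QuotientGroup.mk' ⁅Q, Q⁆ (a₀ * a₁ * a₂) = QuotientGroup.mk' ⁅Q, Q⁆ v := by
    rw [ha₀, ha₁, ha₂]
    simp only [map_mul (QuotientGroup.mk' ⁅Q, Q⁆) v, map_mul (QuotientGroup.mk' ⁅Q, Q⁆) (v * w),
      map_mul (QuotientGroup.mk' ⁅Q, Q⁆) (v * w * (v * (d⁻¹ * w * d)))]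
    set V := QuotientGroup.mk' ⁅Q, Q⁆ v
    set W0 := QuotientGroup.mk' ⁅Q, Q⁆ w
    set W1 := QuotientGroup.mk' ⁅Q, Q⁆ (d * w * d⁻¹)
    set W2 := QuotientGroup.mk' ⁅Q, Q⁆ (d⁻¹ * w * d)
    calc V * W0 * (V * W2) * (V * W1) = V * (W0 * V) * W2 * V * W1 := by group
      _ = V * (V * W0) * W2 * V * W1 := by rw [c1]
      _ = V * V * W0 * (W2 * V) * W1 := by group
      _ = V * V * W0 * (V * W2) * W1 := by rw [c2]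
      _ = V * V * (W0 * V) * (W2 * W1) := by group
      _ = V * V * (V * W0) * (W1 * W2) := by rw [c1, c3]
      _ = (V * V) * V * (W0 * W1 * W2) := by group
      _ = V := by rw [hVV, hWWW, one_mul, mul_one]
  have ha0Q : a₀ ∈ Q := Q.mul_mem hv hw
  have ha1Q : a₁ ∈ Q := Q.mul_mem hv hw2
  have ha2Q : a₂ ∈ Q := Q.mul_mem hv hw1
  have hz : QuotientGroup.mk' ⁅Q, Q⁆ ((a₀ * a₁ * a₂)⁻¹ * v) = 1 := by
    rw [map_mul, map_inv, hprod, inv_mul_cancel]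
  refine ⟨a₀, ha0Q, a₁, ha1Q, a₂ * ((a₀ * a₁ * a₂)⁻¹ * v),
    Q.mul_mem ha2Q (Q.mul_mem (Q.inv_mem (Q.mul_mem (Q.mul_mem ha0Q ha1Q) ha2Q)) hv),
    F0, F1, ?_, by group⟩
  unfold Fix at F2 ⊢
  rw [← QuotientGroup.eq_one_iff, ← QuotientGroup.mk'_apply] at F2 ⊢
  have hx : QuotientGroup.mk' ⁅Q, Q⁆ (a₂ * ((a₀ * a₁ * a₂)⁻¹ * v)) = QuotientGroup.mk' ⁅Q, Q⁆ a₂ := by
    rw [map_mul, hz, mul_one]
  rw [map_mul, map_mul, map_mul, map_inv, map_inv, hx]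
  rw [map_mul, map_mul, map_mul, map_inv, map_inv] at F2
  exact F2

end Cfsg.Agent.Lib.Helper29.E4
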