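import Cfsg.Agent.Lib.Helper29.E4.S1
import Cfsg.Agent.Lib.Helper29.E4.S2
import Cfsg.Agent.Lib.Helper29.E4.CO
import Cfsg.Agent.Lib.Helper29.E4.A1
import Cfsg.Agent.Lib.Helper29.E4.A2
import Cfsg.Agent.Lib.Helper29.E4.A3a
import Cfsg.Agent.Lib.Helper29.E4.A3b
import Cfsg.Agent.Lib.Helper29.E4.A4
import Cfsg.Agent.Lib.Helper29.E4.B0
import Cfsg.Agent.Lib.Helper29.E4.B1a
import Cfsg.Agent.Lib.Helper29.E4.B1b
import Cfsg.Agent.Lib.Helper29.E4.B2a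
import Cfsg.Agent.Lib.Helper29.E4.B2q
import Cfsg.Agent.Lib.Helper29.E4.B3
import Cfsg.Agent.Lib.Helper29.E4.B4t
import Cfsg.Agent.Lib.Helper29.E4.CS
import Cfsg.Agent.Lib.Helper29.E4.ISO
import Cfsg.Agent.Lib.Helper29.E4.K1
import Cfsg.Agent.Lib.Helper29.E4.K1t
import Cfsg.Agent.Lib.Helper29.E4.K2
import Cfsg.Agent.Lib.Helper29.E4.K3N
import Cfsg.Agent.Lib.Helper29.E4.K3m
import Cfsg.Agent.Lib.Helper29.E4.K4
import Cfsg.Agent.Lib.Helper29.E4.X0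
import Cfsg.Agent.Lib.Helper29.E4.X1
import Cfsg.Agent.Lib.Helper29.E4.X2
import Cfsg.Agent.Lib.Helper29.E4.X4
import Cfsg.Agent.Lib.Helper29.E4.X5
import Cfsg.Agent.Lib.Helper29.E4.X6
import Cfsg.Agent.Lib.Helper29.E4.X7
import Cfsg.Agent.S0144

/-! S4006: assembly. -/

set_option autoImplicit false

namespace Cfsg.Agent.Lib.Helper29.E4

section K
variable {X : Type*} [Group X] [Finite X] (s : X ≃* X)

/-- a finite group with a fixed-point-free automorphism of order 3 has class at most 2 -/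
theorem K_main (h : Fpf3 s) (u g c : X) : Commute c (g * u * g⁻¹ * u⁻¹) := by
  have hsurj := K1_surj s h
  have hcomm := K1_comm s h
  have ha := K2_a s hsurj hcomm
  have h2 : Fpf3 (s.trans s) := K1_sq s h
  have hb : ∀ x c : X, Commute x (c * s (s x) * c⁻¹) :=
    K2_a (s.trans s) (K1_surj _ h2) (K1_comm _ h2)
  have hc := K2_c s (K1_nrm s h) ha hb
  obtain ⟨N, hN, hab, hs, hu⟩ := K3_N s h.1 ha hb hc u
  haveI := hN
  exact K3_mod s h (fun τ hτ => K1_nrm τ hτ) (fun k => K1_tw s h hsurj k) hc N hab hs u hu g c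

end K

variable {G : Type*} [Group G]

theorem caseA [Finite G] (hG : H34 G) (N : Subgroup G) [N.Normal] (hN3 : ∀ x ∈ N, x ^ 3 = 1)
    (hN1 : N ≠ ⊥) (hmax : ∀ M : Subgroup G, M.Normal → (∀ x ∈ M, x ^ 3 = 1) → M ≤ N)
    (g₄ : G) (h4 : orderOf g₄ = 4) :
    Cfsg.IsElementaryAbelian 3 N ∧
      ((IsCyclic (G ⧸ N) ∧ N.index = 4) ∨ Nonempty (G ⧸ N ≃* QuaternionGroup 2)) := by
  have ht : (g₄ ^ 2) ^ 2 = 1 := by
    rw [← pow_mul]
    have := pow_orderOf_eq_one g₄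
    rwa [h4] at this
  have ht1 : g₄ ^ 2 ≠ 1 := by
    intro h
    have := orderOf_dvd_of_pow_eq_one h
    rw [h4] at this
    omega
  have hinv := fun t ht ht1 => inverts hG N hN3 t ht ht1
  have hel := elemAb_of_inverts N hN3 (g₄ ^ 2) (hinv _ ht ht1)
  have hcent := cent_le hG N hN3 hN1 hmax
  have huniq := quot_unique_inv hG N hN3 hinv hcent
  have hp4 := quot_pow4 hG N hN3 huniq _ ht ht1
  have ho4 := quot_order4 N hN3 g₄ h4
  rcases c4_or_q8 hp4 huniq _ ho4 with ⟨hc, hcard⟩ | hq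
  · exact ⟨hel, Or.inl ⟨hc, hcard⟩⟩
  · exact ⟨hel, Or.inr hq⟩

section Ctx
variable {Q : Subgroup G} {d t : G}

theorem cross_gen (h : Ctx2 Q d t) (x y' : G) (hx : x ∈ Q) (hy' : y' ∈ Q) (hfx : Fix Q t x)
    (hfy' : Fix Q (d * t * d⁻¹) y') : x * y' = y' * x := by
  haveI := h.nQ
  have h1 : Ctx2 Q d (d * t * d⁻¹) := h.conj
  have h2 : Ctx2 Q d (d⁻¹ * t * d) := by
    have := h1.conj
    rwa [h.toCtx.conj_conj] at this
  have c0 := fun x y hx hy => h.comm_of_fix (fun x hx hf => h.sq_one_of_fix x hx hf) x y hx hy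
  have c1 := fun x y hx hy => h1.comm_of_fix (fun x hx hf => h1.sq_one_of_fix x hx hf) x y hx hy
  have c2 := fun x y hx hy => h2.comm_of_fix (fun x hx hf => h2.sq_one_of_fix x hx hf) x y hx hy
  have cjm : ∀ (c z : G), z ∈ Q → c * z * c⁻¹ ∈ Q := fun c z hz => h.nQ.conj_mem z hz c
  have cjm' : ∀ (c z : G), z ∈ Q → c⁻¹ * z * c ∈ Q := fun c z hz => by
    have := h.nQ.conj_mem z hz c⁻¹
    rwa [inv_inv] at this
  set y := d⁻¹ * y' * d with hy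
  have hyQ : y ∈ Q := cjm' d y' hy'
  have hy'eq : y' = d * y * d⁻¹ := by rw [hy]; group
  have hfy : Fix Q t y := by
    have := hfy'.conj d⁻¹
    rw [inv_inv] at this
    have e : d⁻¹ * (d * t * d⁻¹) * d = t := by group
    rwa [e] at this
  have f2 : ∀ z, Fix Q t z → Fix Q (d⁻¹ * t * d) (d⁻¹ * z * d) := by
    intro z hz
    have := hz.conj d⁻¹
    rwa [inv_inv] at this
  rw [hy'eq]
  exact h.comm_cross x y hx hyQ (c0 x y hx hyQ hfx hfy)
    (c1 _ _ (cjm d x hx) (cjm d y hyQ) (hfx.conj d) (hfy.conj d))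
    (c2 _ _ (cjm' d x hx) (cjm' d y hyQ) (f2 x hfx) (f2 y hfy))

theorem abelian_of_ctx2 (h : Ctx2 Q d t) : ∀ v ∈ Q, ∀ w ∈ Q, v * w = w * v := by
  haveI := h.nQ
  have h1 : Ctx2 Q d (d * t * d⁻¹) := h.conj
  have h2 : Ctx2 Q d (d⁻¹ * t * d) := by
    have := h1.conj
    rwa [h.toCtx.conj_conj] at this
  have c0 := fun x y hx hy => h.comm_of_fix (fun x hx hf => h.sq_one_of_fix x hx hf) x y hx hy
  have c1 := fun x y hx hy => h1.comm_of_fix (fun x hx hf => h1.sq_one_of_fix x hx hf) x y hx hy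
  have c2 := fun x y hx hy => h2.comm_of_fix (fun x hx hf => h2.sq_one_of_fix x hx hf) x y hx hy
  have x01 := cross_gen h
  have x12 : ∀ x y' : G, x ∈ Q → y' ∈ Q → Fix Q (d * t * d⁻¹) x → Fix Q (d⁻¹ * t * d) y' →
      x * y' = y' * x := by
    intro x y' hx hy' hfx hfy'
    apply cross_gen h1 x y' hx hy' hfx
    rwa [h.toCtx.conj_conj]
  have x20 : ∀ x y' : G, x ∈ Q → y' ∈ Q → Fix Q (d⁻¹ * t * d) x → Fix Q t y' →
      x * y' = y' * x := by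
    intro x y' hx hy' hfx hfy'
    apply cross_gen h2 x y' hx hy' hfx
    have e : d * (d⁻¹ * t * d) * d⁻¹ = t := by group
    rwa [e]
  intro v hv w hw
  obtain ⟨a0, ha0, a1, ha1, a2, ha2, fa0, fa1, fa2, rfl⟩ := h.decomp v hv
  obtain ⟨b0, hb0, b1, hb1, b2, hb2, fb0, fb1, fb2, rfl⟩ := h.decomp w hw
  have k00 : Commute a0 b0 := c0 a0 b0 ha0 hb0 fa0 fb0
  have k01 : Commute a0 b1 := x01 a0 b1 ha0 hb1 fa0 fb1
  have k02 : Commute a0 b2 := (x20 b2 a0 hb2 ha0 fb2 fa0).symm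
  have k10 : Commute a1 b0 := (x01 b0 a1 hb0 ha1 fb0 fa1).symm
  have k11 : Commute a1 b1 := c1 a1 b1 ha1 hb1 fa1 fb1
  have k12 : Commute a1 b2 := x12 a1 b2 ha1 hb2 fa1 fb2
  have k20 : Commute a2 b0 := x20 a2 b0 ha2 hb0 fa2 fb0
  have k21 : Commute a2 b1 := (x12 b1 a2 hb1 ha2 fb1 fa2).symm
  have k22 : Commute a2 b2 := c2 a2 b2 ha2 hb2 fa2 fb2
  exact (((k00.mul_right k01).mul_right k02).mul_left ((k10.mul_right k11).mul_right k12)).mul_left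
    ((k20.mul_right k21).mul_right k22)

end Ctx

theorem mk_ctx [Finite G] (hG : H34 G) (Q : Subgroup G) [hQn : Q.Normal] (hQ4 : ∀ x ∈ Q, x ^ 4 = 1)
    (d t : G) (hd3 : d ^ 3 = 1) (hd1 : d ≠ 1) (ht2 : t ^ 2 = 1) (htQ : t ∉ Q)
    (htd : t * d * t⁻¹ = d⁻¹) : Ctx Q d t := by
  have hf := conj_fpf hG Q hQ4 d hd3 hd1
  have hdd : d * d = d⁻¹ := by
    have : d * d * d = 1 := by rw [← hd3, pow_succ, pow_two]
    exact eq_inv_of_mul_eq_one_left this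
  have hdd' : d⁻¹ * d⁻¹ = d := by
    rw [← mul_inv_rev, hdd, inv_inv]
  have hss : ∀ v : Q, ((MulAut.conjNormal d (MulAut.conjNormal d v) : Q) : G) = d⁻¹ * v * d := by
    intro v
    rw [MulAut.conjNormal_apply, MulAut.conjNormal_apply]
    calc d * (d * (v : G) * d⁻¹) * d⁻¹ = (d * d) * v * (d⁻¹ * d⁻¹) := by group
      _ = d⁻¹ * v * d := by rw [hdd, hdd']
  refine
    { nQ := hQn, q4 := hQ4, d3 := hd3, t2 := ht2, tQ := htQ, td := htd, fpf := ?_, nrm := ?_,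
      nrm' := ?_, cl2 := ?_, sq := ?_ }
  · intro v hv hfix
    have := hf.2 ⟨v, hv⟩ (Subtype.ext (by rw [MulAut.conjNormal_apply]; exact hfix))
    exact congrArg Subtype.val this
  · intro v hv
    have := congrArg Subtype.val (K1_nrm _ hf ⟨v, hv⟩)
    rw [Subgroup.coe_mul, Subgroup.coe_mul, hss, MulAut.conjNormal_apply] at this
    exact this
  · intro v hv
    have := congrArg Subtype.val (K1_nrm' _ hf ⟨v, hv⟩)
    rw [Subgroup.coe_mul, Subgroup.coe_mul, hss, MulAut.conjNormal_apply] at this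
    exact this
  · intro x hx y hy z hz
    have := congrArg Subtype.val (K_main _ hf (⟨y, hy⟩ : Q) ⟨x, hx⟩ ⟨z, hz⟩).eq
    simpa using this.symm
  · intro τ hτ hτQ v hv
    exact ctx_sq hG Q τ hτ hτQ v hv

theorem caseB [Finite G] (hG : H34 G) (hs : Group.IsSolvable G) (Q : Subgroup G) [Q.Normal]
    (hQ4 : ∀ x ∈ Q, x ^ 4 = 1) (hQ1 : Q ≠ ⊥)
    (hmaxQ : ∀ M : Subgroup G, M.Normal → (∀ x ∈ M, x ^ 4 = 1) → M ≤ Q)
    (g₃ g₄ : G) (h3 : orderOf g₃ = 3) (h4 : orderOf g₄ = 4) :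
    (IsPGroup 2 Q ∧ Monoid.exponent Q = 4 ∧ Group.nilpotencyClass Q ≤ 2 ∧ Q.index = 3) ∨
      (Cfsg.IsElementaryAbelian 2 Q ∧ Nonempty (G ⧸ Q ≃* Equiv.Perm (Fin 3))) := by
  haveI : Fact (Nat.Prime 3) := ⟨by norm_num⟩
  obtain ⟨V, hVn, hV1, hVQ, hVab⟩ := exists_V Q hQ4 hQ1
  haveI := hVn
  have hno := fun x y hx hy hxy hx1 hy1 h1 h2 =>
    no_c3c3 hG V (fun v hv => hQ4 v (hVQ hv)) hVab hV1 x y hx hy hxy hx1 hy1 h1 h2
  obtain ⟨P⟩ : Nonempty (Sylow 3 G) := inferInstance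
  have hP := sylow3_card hG hno g₃ h3 P
  have hg33 : g₃ ^ 3 = 1 := by rw [← h3]; exact pow_orderOf_eq_one g₃
  have hg31 : g₃ ≠ 1 := by
    intro h
    rw [h, orderOf_one] at h3
    omega
  have notQ : ∀ e : G, e ^ 3 = 1 → e ≠ 1 → e ∉ Q := fun e he he1 heQ =>
    he1 (eq_one_of_pow3_pow4 he (hQ4 e heQ))
  have hX : H34 (G ⧸ Q) := hG.quotient Q
  have hXs : Group.IsSolvable (G ⧸ Q) := inferInstance
  haveI hXnt : Nontrivial (G ⧸ Q) := by
    refine ⟨⟨(g₃ : G ⧸ Q), 1, ?_⟩⟩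
    intro h
    exact notQ g₃ hg33 hg31 ((QuotientGroup.eq_one_iff g₃).mp h)
  have h2 := quot_no_normal4 hG Q hQ4 hmaxQ
  have h9 := quot_not_nine P hP Q
  obtain ⟨M, hMn, hM1, hM⟩ := exists_normal hX hXs
  have hM3 : ∀ x ∈ M, x ^ 3 = 1 := hM.resolve_right (fun h => hM1 (h2 M hMn h))
  obtain ⟨N, hNn, hN3, hNmax⟩ := exists_core3 hX
  haveI := hNn
  have hN1 : N ≠ ⊥ := by
    intro h
    apply hM1
    rw [eq_bot_iff, ← h]
    exact hNmax M hMn hM3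
  have hNc := card_eq_three N hN3 hN1 h9
  have hcent := cent_le hX N hN3 hN1 hNmax
  rcases card_of_self_centralizing_three N hNc hcent with h | h
  · left
    have hf := conj_fpf hG Q hQ4 g₃ hg33 hg31
    exact caseB3 Q hQ4 h g₄ h4 (K4 (K_main _ hf))
  · right
    have hsurj : ∀ d : G, d ^ 3 = 1 → d ≠ 1 → ∀ q ∈ Q, ∃ u ∈ Q, q = u⁻¹ * (d⁻¹ * u * d) := by
      intro d hd hd1 q hq
      have hf := conj_fpf hG Q hQ4 d⁻¹ (by rw [inv_pow, hd, inv_one]) (by simpa using hd1)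
      obtain ⟨u, hu⟩ := K1_surj _ hf ⟨q, hq⟩
      refine ⟨u, u.2, ?_⟩
      have := congrArg Subtype.val hu
      rw [Subgroup.coe_mul, MulAut.conjNormal_apply, inv_inv] at this
      simpa using this
    obtain ⟨d, t, hd3, hd1, ht2, htQ, htd⟩ := exists_dt hG Q hQ4 hsurj h
    have hc := mk_ctx hG Q hQ4 d t hd3 hd1 ht2 htQ htd
    have hsq : ∀ (A D : Subgroup G) [A.Normal] [D.Normal], A ≤ Q → D ≤ A →
      (∀ a ∈ A, ∀ b ∈ A, a * b * a⁻¹ * b⁻¹ ∈ D) → ∀ v ∈ A, v ^ 2 ∈ D :=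
      fun A D _ _ => hc.sq_mem A D
    have hc2 := hc.toCtx2 hsq
    refine ⟨hc.elemAb hsq (abelian_of_ctx2 hc2), ?_⟩
    refine iso_S3 h (d : G ⧸ Q) (t : G ⧸ Q) ?_ ?_ ?_ ?_ ?_
    · rw [← QuotientGroup.mk_pow, hd3]; rfl
    · intro hh
      exact notQ d hd3 hd1 ((QuotientGroup.eq_one_iff d).mp hh)
    · rw [← QuotientGroup.mk_pow, ht2]; rfl
    · intro hh
      exact htQ ((QuotientGroup.eq_one_iff t).mp hh)
    · rw [← QuotientGroup.mk_inv, ← QuotientGroup.mk_mul, ← QuotientGroup.mk_mul, htd,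
        QuotientGroup.mk_inv]

theorem main [Finite G] (h : Set.range (orderOf : G → ℕ) = {k : ℕ | 1 ≤ k ∧ k ≤ 4}) :
    ∃ (N : Subgroup G) (_ : N.Normal),
      (IsPGroup 2 ↥N ∧ Monoid.exponent ↥N = 4 ∧ Group.nilpotencyClass ↥N ≤ 2 ∧ N.index = 3) ∨
      (Cfsg.IsElementaryAbelian 2 N ∧ Nonempty (G ⧸ N ≃* Equiv.Perm (Fin 3))) ∨
      (Cfsg.IsElementaryAbelian 3 N ∧
        ((IsCyclic (G ⧸ N) ∧ N.index = 4) ∨ Nonempty (G ⧸ N ≃* QuaternionGroup 2))) := by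
  have hG : H34 G := by
    intro g
    have hg : orderOf g ∈ Set.range (orderOf : G → ℕ) := ⟨g, rfl⟩
    rw [h] at hg
    obtain ⟨h1, h4⟩ := hg
    have hp := pow_orderOf_eq_one g
    interval_cases ho : orderOf g
    · left; rw [pow_one] at hp; rw [hp, one_pow]
    · right
      calc g ^ 4 = (g ^ 2) ^ 2 := by rw [← pow_mul]
        _ = 1 := by rw [hp, one_pow]
    · left; exact hp
    · right; exact hp
  obtain ⟨g₃, h3⟩ : (3 : ℕ) ∈ Set.range (orderOf : G → ℕ) := by rw [h]; constructor <;> norm_num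
  obtain ⟨g₄, h4⟩ : (4 : ℕ) ∈ Set.range (orderOf : G → ℕ) := by rw [h]; constructor <;> norm_num
  haveI : Nontrivial G := by
    refine ⟨⟨g₃, 1, ?_⟩⟩
    intro hh
    rw [hh, orderOf_one] at h3
    omega
  obtain ⟨a, b, hab⟩ := card_eq hG
  have hs : Group.IsSolvable G :=
    Cfsg.Agent.S0144.result 2 3 a b Nat.prime_two Nat.prime_three hab
  obtain ⟨N, hNn, hN3, hNmax⟩ := exists_core3 hG
  obtain ⟨Q, hQn, hQ4, hQmax⟩ := exists_core4 hG
  by_cases hN1 : N = ⊥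
  · have hQ1 : Q ≠ ⊥ := by
      obtain ⟨M, hMn, hM1, hM⟩ := exists_normal hG hs
      rcases hM with hM | hM
      · exfalso
        apply hM1
        rw [eq_bot_iff, ← hN1]
        exact hNmax M hMn hM
      · intro hh
        apply hM1
        rw [eq_bot_iff, ← hh]
        exact hQmax M hMn hM
    haveI := hQn
    refine ⟨Q, hQn, ?_⟩
    rcases caseB hG hs Q hQ4 hQ1 hQmax g₃ g₄ h3 h4 with hh | hh
    · exact Or.inl hh
    · exact Or.inr (Or.inl hh)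
  · haveI := hNn
    exact ⟨N, hNn, Or.inr (Or.inr (caseA hG N hN3 hN1 hNmax g₄ h4))⟩

end Cfsg.Agent.Lib.Helper29.E4
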