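import Cfsg.Agent.Lib.Helper29.E4.Defs

set_option autoImplicit false

namespace Cfsg.Agent.Lib.Helper29.E4

variable {G : Type*} [Group G]

theorem card_eq [Finite G] (hG : H34 G) : ∃ a b : ℕ, Nat.card G = 2 ^ a * 3 ^ b := by
  have hn : Nat.card G ≠ 0 := Nat.card_pos.ne'
  have hsub : (Nat.card G).factorization.support ⊆ {2, 3} := by
    intro p hp
    rw [Nat.support_factorization, Nat.mem_primeFactors] at hp
    obtain ⟨hpp, hdvd, -⟩ := hp
    have : Fact p.Prime := ⟨hpp⟩
    obtain ⟨x, hx⟩ := exists_prime_orderOf_dvd_card' p hdvd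
    rw [Finset.mem_insert, Finset.mem_singleton]
    rcases hG x with h | h
    · right
      have := orderOf_dvd_of_pow_eq_one h
      rw [hx] at this
      exact (Nat.prime_dvd_prime_iff_eq hpp Nat.prime_three).mp this
    · left
      have := orderOf_dvd_of_pow_eq_one h
      rw [hx] at this
      have h4 : p ∣ 2 ^ 2 := by simpa using this
      exact (Nat.prime_dvd_prime_iff_eq hpp Nat.prime_two).mp (hpp.dvd_of_dvd_pow h4)
  have h1 := Nat.prod_factorization_pow_eq_self hn
  rw [Finsupp.prod_of_support_subset _ hsub _ (fun i _ => pow_zero i),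
    Finset.prod_pair (by norm_num)] at h1
  exact ⟨_, _, h1.symm⟩

end Cfsg.Agent.Lib.Helper29.E4
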