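import Cfsg.Agent.Lib.Helper29.E4.Defs

set_option autoImplicit false

namespace Cfsg.Agent.Lib.Helper29.E4

variable {G : Type*} [Group G]

variable {Q : Subgroup G} {d t : G}

theorem X0_dd (h : Ctx Q d t) : d * d = d⁻¹ := by
  have := h.d3
  rw [pow_succ, sq] at this
  exact eq_inv_of_mul_eq_one_left this

theorem X0_td (h : Ctx Q d t) : t * d = d⁻¹ * t := by
  have := h.td
  rw [mul_inv_eq_iff_eq_mul] at this
  exact this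

theorem X0_tdi (h : Ctx Q d t) : t * d⁻¹ = d * t := by
  have := X0_td h
  calc t * d⁻¹ = d * (d⁻¹ * t) * d⁻¹ := by group
    _ = d * (t * d) * d⁻¹ := by rw [this]
    _ = d * t := by group

theorem X0_e1 (h : Ctx Q d t) : d * t * d⁻¹ = d⁻¹ * t := by
  rw [mul_assoc, X0_tdi h, ← mul_assoc, X0_dd h]

theorem X0_e2 (h : Ctx Q d t) : d⁻¹ * t * d = d * t := by
  rw [mul_assoc, X0_td h, ← mul_assoc, ← mul_inv_rev, X0_dd h, inv_inv]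

/-- all fields except `t2 tQ td` are unchanged; `(d t d⁻¹) d (d t d⁻¹)⁻¹ = d (t d t⁻¹) d⁻¹ = d⁻¹`. -/
theorem Ctx.conj (h : Ctx Q d t) : Ctx Q d (d * t * d⁻¹) := by
  have := h.nQ
  refine { h with t2 := ?_, tQ := ?_, td := ?_ }
  · rw [conj_pow, h.t2]; group
  · intro hm
    apply h.tQ
    have := h.nQ.conj_mem _ hm d⁻¹
    simpa [mul_assoc] using this
  · calc d * t * d⁻¹ * d * (d * t * d⁻¹)⁻¹ = d * (t * d * t⁻¹) * d⁻¹ := by group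
      _ = d⁻¹ := by rw [h.td]; group

theorem Ctx2.conj (h : Ctx2 Q d t) : Ctx2 Q d (d * t * d⁻¹) :=
  { h.toCtx.conj with Dc := h.Dc, D2 := h.D2, sqD := h.sqD }

/-- `t d = d⁻¹ t`, so `d t d⁻¹ = d⁻¹ t` (use `d^3 = 1`) and `(d t d⁻¹) v (d t d⁻¹)⁻¹ = d⁻¹ (t v t⁻¹) d`. -/
theorem Ctx.conj_t1 (h : Ctx Q d t) (v : G) :
    (d * t * d⁻¹) * v * (d * t * d⁻¹)⁻¹ = d⁻¹ * (t * v * t⁻¹) * d := by
  rw [X0_e1 h]; group

/-- `d⁻¹ t d = d t`. -/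
theorem Ctx.conj_t2 (h : Ctx Q d t) (v : G) :
    (d⁻¹ * t * d) * v * (d⁻¹ * t * d)⁻¹ = d * (t * v * t⁻¹) * d⁻¹ := by
  rw [X0_e2 h]; group

/-- `d (d t d⁻¹) d⁻¹ = d⁻¹ t d` since `d^2 = d⁻¹`. -/
theorem Ctx.conj_conj (h : Ctx Q d t) : d * (d * t * d⁻¹) * d⁻¹ = d⁻¹ * t * d := by
  calc d * (d * t * d⁻¹) * d⁻¹ = (d * d) * t * (d * d)⁻¹ := by group
    _ = d⁻¹ * t * d := by rw [X0_dd h, inv_inv]

end Cfsg.Agent.Lib.Helper29.E4
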